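import Groth.Agent.EtCoh.K103.DualNZ
import Groth.Agent.EtCoh.K720.Equi
import Groth.Agent.Dual.H366.ExtQCoh
import Groth.Agent.Fdesc.StructMod

/-!
# Nondegeneracy of the pairings of global forms with the top cohomology

`X` integral, proper and smooth of relative dimension two over a finite field, `t` a nonzero functional on
`H²(X_ét, Ω²)`: `wedge_nondeg` (`Γ(Ω¹) × H²(Ω¹)`), `mul_nondeg` (`Γ(Ω²) × H²(O)`).
-/

set_option autoImplicit false
set_option linter.unusedSectionVars false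

universe u

open CategoryTheory CategoryTheory.Limits AlgebraicGeometry Opposite TopologicalSpace

noncomputable section

namespace K103.D1

open K611.Sh K611.Seq K611.Seq2 K720.Pair K720.Equi K611.Dict K611.Dual K611.Om K611.Om2L K611.Zar K611.S1

variable {X : Scheme.{u}} {p : ℕ} {A A' A'' : CommRingCat.{u} ⥤ AddCommGrpCat.{u}}

theorem Hmap_zero (X : Scheme.{u}) (A B : EtCoh.Ab X) (n : ℕ) (x : EtCoh.H X A n) :
    Sheaf.H.map (0 : A ⟶ B) n x = 0 := by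
  rw [Sheaf.H.map_apply, Abelian.Ext.mk₀_zero, Abelian.Ext.comp_zero]

theorem v_T0 {F : EtCoh.Ab X} (θ : Gs F) (U : X.Etale) : K611.Pair.rs (θ.v (K611.Pair.T0 X)) U = θ.v U := θ.nat _

theorem left_eq_ev (h : (p : Γ(X, ⊤)) = 0) (β : Bi p A A' A'') (β' : K611.Pair.PairN p A A' A'')
    (hβ : ∀ B hB a b, β.app B hB a b = β'.app B hB a b) (θ : Gs (sh A X)) :
    left (β.sh h) θ = K611.Pair.ev β' h (θ.v (K611.Pair.T0 X)) := by
  refine K611.Pair.hom_ext_ζ (θ.v (K611.Pair.T0 X)) _ _ fun U a ha b => ?_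
  rw [K611.Pair.ev_un β' h _ U a ha b]
  change (β.sh h).app U (θ.v U) (un A' U b) = _
  rw [v_T0] at ha
  rw [← ha, Bi.sh_un, hβ]

theorem eq_zero_of_T0 {F : EtCoh.Ab X} (θ : Gs F) (h : θ.v (K611.Pair.T0 X) = 0) : θ = 0 := by
  refine Gs.ext fun V => ?_
  rw [← v_T0, h]
  exact map_zero _

theorem left_zero (h : (p : Γ(X, ⊤)) = 0) (β : Bi p A A' A'') : left (β.sh h) (0 : Gs (sh A X)) = 0 := by
  refine K720.Tw.hom_ext fun V s => ?_
  change (β.sh h).app V 0 s = 0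
  rw [map_zero]
  rfl

/-- Injectivity of `θ ↦ t ∘ H(θ ∧ ·)` gives nondegeneracy. -/
theorem nondeg_of_injective [Fact p.Prime] (h : (p : Γ(X, ⊤)) = 0) (β : Bi p A A' A'')
    (β' : K611.Pair.PairN p A A' A'') (hβ : ∀ B hB a b, β.app B hB a b = β'.app B hB a b) (n : ℕ)
    (t : EtCoh.H X (sh A'' X) n →+ ZMod p)
    (hinj : Function.Injective (fun ζ : EtCoh.sect (sh A X) (K611.Pair.T0 X) =>
      (t.comp (Sheaf.H.map (K611.Pair.ev β' h ζ) n) : EtCoh.H X (sh A' X) n →+ ZMod p)))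
    (θ : Gs (sh A X)) (hθ : ∀ x : EtCoh.H X (sh A' X) n, t (Sheaf.H.map (left (β.sh h) θ) n x) = 0) : θ = 0 := by
  refine eq_zero_of_T0 θ (hinj ?_)
  ext x
  have h1 : t (Sheaf.H.map (K611.Pair.ev β' h (θ.v (K611.Pair.T0 X))) n x) = 0 := by
    rw [← left_eq_ev h β β' hβ]
    exact hθ x
  have h2 : t (Sheaf.H.map (K611.Pair.ev β' h 0) n x) = 0 := by
    have e1 := left_eq_ev h β β' hβ (0 : Gs (sh A X))
    rw [left_zero] at e1
    have e2 : (0 : Gs (sh A X)).v (K611.Pair.T0 X) = 0 := rfl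
    rw [e2] at e1
    rw [← e1, Hmap_zero, map_zero]
  exact h1.trans h2.symm

section

variable (k : Type u) [Field k] [Finite k] (p : ℕ) [Fact p.Prime] [CharP k p]
    (X : Scheme.{u}) (f : X ⟶ Spec (.of k)) [AlgebraicGeometry.IsIntegral X] [IsProper f]
    [SmoothOfRelativeDimension 2 f] (h : (p : Γ(X, ⊤)) = 0)

include f in
theorem exists_data : ∃ (L : X.Modules) (T : ModL (om2BC p) L), ∀ (t : EtCoh.H X (sh Om2F X) 2 →+ ZMod p), t ≠ 0 →
    ∃ tZ : Coh.HH X L 2 →+ ZMod p, tE h T 2 tZ = t ∧ ∀ F : X.Modules, Coh.IsQCoh F →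
      Function.Bijective (fun φ : F ⟶ L => (tZ.comp (AddMonoidHom.mk' (fun x => Sheaf.H.map (ab φ) 2 x) (map_add _)) :
        Coh.HH X F 2 →+ ZMod p)) := by
  obtain ⟨L, hL⟩ := Groth.Agent.Dual.H366.ExtQCoh.exists_isExtPow 2 (K103.DualNZ.isQCoh_om k X f)
  obtain ⟨T⟩ := exists_om2L p f hL h
  refine ⟨L, T, fun t ht => ⟨t.comp (T.cmp (om2BC p) h 2).toAddMonoidHom, ?_, ?_⟩⟩
  · ext x
    change t (T.cmp (om2BC p) h 2 ((T.cmp (om2BC p) h 2).symm x)) = t x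
    rw [AddEquiv.apply_symm_apply]
  · refine K103.DualNZ.dual_of_ne_zero k p X f hL _ ?_
    intro h0
    apply ht
    ext x
    have := DFunLike.congr_fun h0 ((T.cmp (om2BC p) h 2).symm x)
    change t (T.cmp (om2BC p) h 2 ((T.cmp (om2BC p) h 2).symm x)) = 0 at this
    rwa [AddEquiv.apply_symm_apply] at this

include f in
/-- Nondegeneracy of `Γ(Ω¹) × H²(Ω¹) → H²(Ω²) → 𝔽_p`. -/
theorem wedge_nondeg (t : EtCoh.H X (sh Om2F X) 2 →+ ZMod p) (ht : t ≠ 0) (θ : Gs (sh OmF X))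
    (hθ : ∀ x : EtCoh.H X (sh OmF X) 2, t (Sheaf.H.map (left (wΩ h) θ) 2 x) = 0) : θ = 0 := by
  obtain ⟨L, T, hT⟩ := exists_data k p X f h
  obtain ⟨tZ, rfl, hd⟩ := hT t ht
  refine nondeg_of_injective h (wOm p) (wN p) (fun B hB a b => rfl) 2 _ ?_ θ hθ
  exact (bijective_ev (hA := omBC p) h (omL p f) T (lpair_w (p := p)) (K103.DualNZ.isBase_good k p X f)
    (fun V hV => hV.1) (fun V hV => hV.2) 2 tZ (hd _ (K103.DualNZ.isQCoh_om k X f))).1

include f in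
/-- Nondegeneracy of `Γ(Ω²) × H²(O) → H²(Ω²) → 𝔽_p`. -/
theorem mul_nondeg (t : EtCoh.H X (sh Om2F X) 2 →+ ZMod p) (ht : t ≠ 0) (σ : Gs (sh Om2F X))
    (hσ : ∀ g : EtCoh.H X (sh GaF X) 2, t (Sheaf.H.map (left (mΩ h) σ) 2 g) = 0) : σ = 0 := by
  obtain ⟨L, T, hT⟩ := exists_data k p X f h
  obtain ⟨tZ, rfl, hd⟩ := hT t ht
  refine nondeg_of_injective h (mOm2 p) (βr (om2BC p) (semi_om2 (p := p))) (fun B hB a b => rfl) 2 _ ?_ σ hσ
  exact (bijective_ev (hA := om2BC p) h (gaL (p := p)) T (lpair_r (om2BC p) semi_om2 (GoodN p 2))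
    (K103.DualNZ.isBase_good k p X f)
    (fun V hV => hV.1) (fun V hV => hV.2) 2 tZ (hd _ (Groth.Agent.Fdesc.StructMod.isQCoh_structureModule X))).1

end

end K103.D1
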