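import Groth.Agent.EtCoh.K611.NodeT2
import Groth.Agent.EtCoh.K611.Om2L
import Groth.Agent.EtCoh.K611.Charts2
import Groth.Agent.EtCoh.K382.DualAdd
import Groth.Agent.Dual3.K477.ExtCoh
import Groth.Agent.Vancyc.H878.OmegaRank

/-!
# Nonzero functionals on the top cohomology of the top forms are dualizing

`X` integral, proper and smooth of relative dimension two over a finite field.
-/

set_option autoImplicit false
set_option linter.unusedSectionVars false

universe u

open CategoryTheory CategoryTheory.Limits AlgebraicGeometry Opposite TopologicalSpace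

noncomputable section

namespace K103.DualNZ

open K611.Gam K611.Gam2 K611.Frame K611.Sh K611.Seq K611.Seq2 K611.Top K611.Om K611.S1 K611.Zar K611.Glue
  K611.Pair K611.Dict K611.Dual K611.Cart K611.Exact K611.NodeT K611.Charts2 K611.Om2L KaehlerDifferential

section

variable (k : Type u) [Field k] [Finite k] (p : ℕ) [hp : Fact p.Prime] [CharP k p] (X : Scheme.{u})
  (f : X ⟶ Spec (.of k)) [AlgebraicGeometry.IsIntegral X] [IsProper f] [SmoothOfRelativeDimension 2 f]

include f in
theorem cast_p_eq_zero : (p : Γ(X, ⊤)) = 0 := by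
  have h1 := congrArg ((Scheme.ΓSpecIso (CommRingCat.of k)).inv ≫ f.appTop).hom (CharP.cast_eq_zero k p)
  rwa [map_natCast, map_zero] at h1

include f in
/-- Good affine opens form a base. -/
theorem isBase_good : IsBase X fun V => IsAffineOpen V ∧ GoodN p 2 Γ(X, V) := fun x U hx => by
  obtain ⟨V, h1, h2, h3, h4⟩ := exists_goodN p k X f 2 x U hx
  exact ⟨V, ⟨h1, h4⟩, h2, h3⟩

theorem isQCoh_om : Coh.IsQCoh (Omega.sheaf f) := Groth.Agent.Vancyc.H878.OmegaRank.isQCoh_omega f

variable {L : X.Modules} (hL : ExtPow.IsExtPow 2 (Omega.sheaf f) L)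

include hL in
theorem isQCoh_top : Coh.IsQCoh L := Groth.Agent.K477.ExtCoh.isQCoh_of_isExtPow (isQCoh_om k X f) hL

include hL in
/-- **Every nonzero functional is dualizing.** -/
theorem dual_of_ne_zero (t : Coh.HH X L 2 →+ ZMod p) (ht : t ≠ 0) (F : X.Modules) (hF : Coh.IsQCoh F) :
    Function.Bijective (fun φ : F ⟶ L => (t.comp (AddMonoidHom.mk'
      (fun x => Sheaf.H.map ((SheafOfModules.toSheaf X.ringCatSheaf).map φ) 2 x) (map_add _)) :
        Coh.HH X F 2 →+ ZMod p)) := by
  have h := cast_p_eq_zero k p X f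
  obtain ⟨T⟩ := exists_om2L p f hL h
  obtain ⟨t₀, ht₀⟩ := EtCoh.K382.DualAdd.exists_dual k p X f 2 L hL
  have h𝓑 := isBase_good k p X f
  obtain ⟨g, rfl⟩ := exists_mt (TD2 p) h h𝓑 T t₀ (ht₀ L (isQCoh_top k X f hL)) t
  have hg : g ≠ 0 := by
    rintro rfl
    apply ht
    ext x
    rw [mt_apply]
    have e1 : (show Coh.Γtop X from (0 : Γ(X, ⊤))) • x = 0 := zero_smul (Coh.Γtop X) x
    rw [e1, map_zero]
    rfl
  obtain ⟨c, hc⟩ := (isField_Γ (k := k) f).mul_inv_cancel hg
  exact dm_mt_bijective 2 t₀ g c hc F (ht₀ F hF)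

end

end K103.DualNZ
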