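import Groth.Agent.EtCoh.K611.Top
import Groth.Prelude.Def_Fitting

/-!
# Fitting ideals and two-forms

`fitt_smul`: `A` with a frame `x₀, x₁`, `B` an `A`-algebra, `d` in the zeroth Fitting ideal of `Ω[B⁄A]`: then
`d • Ω²_B ⊆ B • dx₀ ∧ dx₁`.
-/

set_option autoImplicit false
set_option linter.unusedSectionVars false

universe u v w'

open KaehlerDifferential K611.Gam K611.Gam2 K611.Frame K611.Top

namespace K103.FitW

section alt

variable {R : Type*} [CommRing R] {n : ℕ}

theorem sum_pairs {N : Type*} [AddCommGroup N] (F : Fin n → Fin n → N) (h : ∀ i, F i i = 0) :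
    ∑ i, ∑ j, F i j = ∑ i, ∑ j, if i < j then F i j + F j i else 0 := by
  have h1 : ∀ i j, F i j = (if i < j then F i j else 0) + (if j < i then F i j else 0) := by
    intro i j
    rcases lt_trichotomy i j with hij | rfl | hij
    · rw [if_pos hij, if_neg (not_lt_of_gt hij), add_zero]
    · rw [if_neg (lt_irrefl _), h, add_zero]
    · rw [if_neg (not_lt_of_gt hij), if_pos hij, zero_add]
  have h2 : ∀ i j, (if i < j then F i j + F j i else 0) = (if i < j then F i j else 0) + (if i < j then F j i else 0) := by
    intro i j
    split_ifs <;> simp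
  calc ∑ i, ∑ j, F i j = ∑ i, ∑ j, ((if i < j then F i j else 0) + (if j < i then F i j else 0)) :=
        Finset.sum_congr rfl fun i _ => Finset.sum_congr rfl fun j _ => h1 i j
    _ = (∑ i, ∑ j, if i < j then F i j else 0) + ∑ i, ∑ j, if j < i then F i j else 0 := by
        simp only [Finset.sum_add_distrib]
    _ = (∑ i, ∑ j, if i < j then F i j else 0) + ∑ i, ∑ j, if i < j then F j i else 0 := by
        rw [Finset.sum_comm (f := fun i j => if j < i then F i j else 0)]
    _ = _ := by simp only [h2, Finset.sum_add_distrib]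

/-- The determinant with columns `k`, `l` replaced. -/
noncomputable def psi (b : Fin n → (Fin n → R)) (k l : Fin n) (v v' : Fin n → R) : R :=
  Matrix.detRowAlternating (Function.update (Function.update b k v) l v')

theorem psi_sum (b : Fin n → (Fin n → R)) {k l : Fin n} (hkl : k ≠ l) (v v' : Fin n → R) :
    psi b k l v v' = ∑ i, ∑ j, v i * v' j * psi b k l (Pi.single i 1) (Pi.single j 1) := by
  have h1 : ∀ v : Fin n → R, v = ∑ i, v i • Pi.single (M := fun _ => R) i 1 := fun v => by
    funext j
    simp [Pi.single_apply]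
  unfold psi
  conv_lhs => rw [h1 v']
  rw [AlternatingMap.map_update_sum]
  have h2 : ∀ j, Matrix.detRowAlternating (Function.update (Function.update b k v) l (v' j • Pi.single j 1)) =
      ∑ i, v i * v' j * Matrix.detRowAlternating (Function.update (Function.update b k (Pi.single i 1)) l (Pi.single j 1)) := by
    intro j
    rw [AlternatingMap.map_update_smul, Function.update_comm hkl]
    conv_lhs => rw [h1 v]
    rw [AlternatingMap.map_update_sum, Finset.smul_sum]
    refine Finset.sum_congr rfl fun i _ => ?_
    rw [AlternatingMap.map_update_smul, Function.update_comm hkl.symm, smul_eq_mul, smul_eq_mul]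
    ring
  simp only [h2]
  exact Finset.sum_comm

theorem psi_self (b : Fin n → (Fin n → R)) {k l : Fin n} (hkl : k ≠ l) (v : Fin n → R) : psi b k l v v = 0 :=
  AlternatingMap.map_update_update _ _ hkl _

theorem psi_swap (b : Fin n → (Fin n → R)) {k l : Fin n} (hkl : k ≠ l) (v v' : Fin n → R) :
    psi b k l v' v = - psi b k l v v' := by
  have h1 : psi b k l (v + v') (v + v') = psi b k l v v + psi b k l v v' + (psi b k l v' v + psi b k l v' v') := by
    unfold psi
    rw [AlternatingMap.map_update_add, Function.update_comm hkl, AlternatingMap.map_update_add,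
      Function.update_comm hkl, AlternatingMap.map_update_add, Function.update_comm hkl.symm,
      Function.update_comm hkl.symm, Function.update_comm hkl.symm, Function.update_comm hkl.symm]
    ring
  rw [psi_self b hkl, psi_self b hkl, psi_self b hkl, zero_add, add_zero] at h1
  rw [eq_neg_iff_add_eq_zero, add_comm]
  exact h1.symm

variable {M N : Type*} [AddCommGroup M] [Module R M] [AddCommGroup N] [Module R N]

/-- If the rows of `a`, read in `y`, are pairwise `W`-orthogonal, `det a` kills `W (y k) (y l)`. -/
theorem det_smul (W : M →ₗ[R] M →ₗ[R] N) (hW : ∀ m, W m m = 0) (a : Matrix (Fin n) (Fin n) R) (y : Fin n → M)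
    (h : ∀ i i', W (∑ j, a i j • y j) (∑ j, a i' j • y j) = 0) {k l : Fin n} (hkl : k < l) :
    a.det • W (y k) (y l) = 0 := by
  have hWs : ∀ m m', W m' m = - W m m' := by
    intro m m'
    have h1 := hW (m + m')
    rw [map_add, map_add, LinearMap.add_apply, LinearMap.add_apply, hW, hW, zero_add, add_zero] at h1
    rw [eq_neg_iff_add_eq_zero]
    exact h1
  let b : Fin n → (Fin n → R) := a.transpose
  have hne : k ≠ l := ne_of_lt hkl
  -- the sum over pairs of columns
  have h1 : (∑ j, ∑ j', if j < j' then psi b k l (b j) (b j') • W (y j) (y j') else 0) = a.det • W (y k) (y l) := by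
    rw [Finset.sum_eq_single k, Finset.sum_eq_single l, if_pos hkl]
    · congr 1
      unfold psi
      rw [Function.update_eq_self, Function.update_eq_self, ← Matrix.det_transpose]
      rfl
    · intro j' _ hj'
      split_ifs with hlt
      · have : psi b k l (b k) (b j') = 0 := by
          unfold psi
          rw [Function.update_eq_self]
          by_cases hk : j' = k
          · exact absurd hk (ne_of_gt hlt)
          · refine AlternatingMap.map_eq_zero_of_eq _ _ (i := j') (j := l) ?_ hj'
            rw [Function.update_of_ne hj', Function.update_self]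
        rw [this, zero_smul]
      · rfl
    · intro h; exact absurd (Finset.mem_univ l) h
    · intro j _ hj
      refine Finset.sum_eq_zero fun j' _ => ?_
      split_ifs with hlt
      · have : psi b k l (b j) (b j') = 0 := by
          unfold psi
          by_cases hjl : j = l
          · subst hjl
            -- `j = l < j'`, so `j' ≠ k, l`
            have hj'l : j' ≠ j := ne_of_gt hlt
            have hj'k : j' ≠ k := ne_of_gt (hkl.trans hlt)
            refine AlternatingMap.map_eq_zero_of_eq _ _ (i := j') (j := j) ?_ hj'l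
            rw [Function.update_of_ne hj'l, Function.update_of_ne hj'k, Function.update_self]
          · refine AlternatingMap.map_eq_zero_of_eq _ _ (i := j) (j := k) ?_ hj
            rw [Function.update_of_ne hjl, Function.update_of_ne hj, Function.update_of_ne hne, Function.update_self]
        rw [this, zero_smul]
      · rfl
    · intro h; exact absurd (Finset.mem_univ k) h
  rw [← h1]
  -- expand `psi`
  have h2 : ∀ j j', psi b k l (b j) (b j') =
      ∑ i, ∑ i', if i < i' then (a i j * a i' j' - a i' j * a i j') * psi b k l (Pi.single i 1) (Pi.single i' 1) else 0 := by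
    intro j j'
    rw [psi_sum b hne, sum_pairs _ (fun i => by rw [psi_self b hne, mul_zero])]
    refine Finset.sum_congr rfl fun i _ => Finset.sum_congr rfl fun i' _ => ?_
    split_ifs
    · rw [psi_swap b hne (Pi.single i 1)]
      change a i j * a i' j' * _ + a i' j * a i j' * _ = _
      ring
    · rfl
  have h3 : ∀ i i', (∑ j, ∑ j', if j < j' then (a i j * a i' j' - a i' j * a i j') • W (y j) (y j') else 0) = 0 := by
    intro i i'
    have e1 : W (∑ j, a i j • y j) (∑ j, a i' j • y j) = ∑ j, ∑ j', (a i j * a i' j') • W (y j) (y j') := by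
      simp only [map_sum, LinearMap.sum_apply, map_smul, LinearMap.smul_apply, Finset.smul_sum, smul_smul]
      rw [Finset.sum_comm]
      refine Finset.sum_congr rfl fun j _ => Finset.sum_congr rfl fun j' _ => ?_
      rw [mul_comm]
    have e2 := sum_pairs (fun j j' => (a i j * a i' j') • W (y j) (y j')) (fun i => by rw [hW, smul_zero])
    refine Eq.trans ?_ ((e2.symm.trans e1.symm).trans (h i i'))
    refine Finset.sum_congr rfl fun j _ => Finset.sum_congr rfl fun j' _ => ?_
    split_ifs
    · rw [hWs (y j) (y j'), smul_neg, sub_smul, sub_eq_add_neg]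
      congr 3
      rw [mul_comm]
    · rfl
  have h4 : ∀ j j', (if j < j' then psi b k l (b j) (b j') • W (y j) (y j') else 0) =
      ∑ i, ∑ i', if i < i' then psi b k l (Pi.single i 1) (Pi.single i' 1) •
        (if j < j' then (a i j * a i' j' - a i' j * a i j') • W (y j) (y j') else 0) else 0 := by
    intro j j'
    split_ifs
    · rw [h2, Finset.sum_smul]
      refine Finset.sum_congr rfl fun i _ => ?_
      rw [Finset.sum_smul]
      refine Finset.sum_congr rfl fun i' _ => ?_
      split_ifs
      · rw [smul_smul, mul_comm]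
      · rw [zero_smul]
    · symm
      refine Finset.sum_eq_zero fun i _ => Finset.sum_eq_zero fun i' _ => ?_
      split_ifs
      · rw [smul_zero]
      · rfl
  simp only [h4]
  have h5 : (∑ j, ∑ j', ∑ i, ∑ i', if i < i' then psi b k l (Pi.single i 1) (Pi.single i' 1) •
        (if j < j' then (a i j * a i' j' - a i' j * a i j') • W (y j) (y j') else 0) else 0) =
      ∑ i, ∑ i', ∑ j, ∑ j', if i < i' then psi b k l (Pi.single i 1) (Pi.single i' 1) •
        (if j < j' then (a i j * a i' j' - a i' j * a i j') • W (y j) (y j') else 0) else 0 := by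
    calc _ = ∑ j, ∑ i, ∑ j', ∑ i', _ := Finset.sum_congr rfl fun j _ => Finset.sum_comm
      _ = ∑ i, ∑ j, ∑ j', ∑ i', _ := Finset.sum_comm
      _ = ∑ i, ∑ j, ∑ i', ∑ j', _ := Finset.sum_congr rfl fun i _ => Finset.sum_congr rfl fun j _ => Finset.sum_comm
      _ = _ := Finset.sum_congr rfl fun i _ => Finset.sum_comm
  rw [h5]
  refine Finset.sum_eq_zero fun i _ => Finset.sum_eq_zero fun i' _ => ?_
  by_cases hii : i < i'
  · simp only [if_pos hii]
    have h6 := congrArg (fun t => psi b k l (Pi.single i 1) (Pi.single i' 1) • t) (h3 i i')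
    simp only [Finset.smul_sum, smul_zero] at h6
    exact h6
  · simp only [if_neg hii, Finset.sum_const_zero]

/-- `d` is the determinant of relations modulo `X = span (x₀, x₁)`: it kills `W` as soon as `W` vanishes on `X`. -/
theorem det_smul_all (W : M →ₗ[R] M →ₗ[R] N) (hW : ∀ m, W m m = 0) (X : Submodule R M)
    (hX : ∀ x ∈ X, ∀ x' ∈ X, W x x' = 0) (a : Matrix (Fin n) (Fin n) R) (y : Fin n → M)
    (h : ∀ i, ∑ j, a i j • y j ∈ X) (hs : Submodule.span R (Set.range y) ⊔ X = ⊤) (u v : M) : a.det • W u v = 0 := by
  have hWs : ∀ m m', W m' m = - W m m' := by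
    intro m m'
    have h1 := hW (m + m')
    rw [map_add, map_add, LinearMap.add_apply, LinearMap.add_apply, hW, hW, zero_add, add_zero] at h1
    rw [eq_neg_iff_add_eq_zero]
    exact h1
  have hyX : ∀ k, a.det • y k ∈ X := by
    intro k
    have h1 : a.det • y k = ∑ i, a.adjugate k i • ∑ j, a i j • y j := by
      have h2 : ∀ j, (∑ i, a.adjugate k i * a i j) = if k = j then a.det else 0 := by
        intro j
        have := congrFun (congrFun (Matrix.adjugate_mul a) k) j
        rw [Matrix.mul_apply, Matrix.smul_apply, Matrix.one_apply, smul_eq_mul, mul_ite, mul_one, mul_zero] at this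
        exact this
      simp only [Finset.smul_sum, smul_smul]
      rw [Finset.sum_comm]
      simp only [← Finset.sum_smul, h2, ite_smul, zero_smul, Finset.sum_ite_eq, Finset.mem_univ, if_true]
    rw [h1]
    exact Submodule.sum_mem _ fun i _ => X.smul_mem _ (h i)
  have h1 : ∀ k, ∀ x ∈ X, a.det • W (y k) x = 0 := by
    intro k x hx
    rw [← LinearMap.smul_apply, ← map_smul]
    exact hX _ (hyX k) _ hx
  have h2 : ∀ k l, a.det • W (y k) (y l) = 0 := by
    intro k l
    rcases lt_trichotomy k l with hkl | rfl | hkl
    · exact det_smul W hW a y (fun i i' => hX _ (h i) _ (h i')) hkl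
    · rw [hW, smul_zero]
    · rw [hWs (y l) (y k), smul_neg, det_smul W hW a y (fun i i' => hX _ (h i) _ (h i')) hkl, neg_zero]
  -- `det a • W u` kills everything
  have key : ∀ (P : M → Prop), P 0 → (∀ m m', P m → P m' → P (m + m')) → (∀ (r : R) m, P m → P (r • m)) →
      (∀ k, P (y k)) → (∀ x ∈ X, P x) → ∀ m, P m := by
    intro P h0 hadd hsmul hy hx m
    let S : Submodule R M :=
      { carrier := {m | P m}
        zero_mem' := h0
        add_mem' := fun {a b} ha hb => hadd a b ha hb
        smul_mem' := fun r m hm => hsmul r m hm }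
    have : (⊤ : Submodule R M) ≤ S := by
      rw [← hs]
      refine sup_le (Submodule.span_le.mpr ?_) hx
      rintro _ ⟨k, rfl⟩
      exact hy k
    exact this Submodule.mem_top
  refine key (fun u => ∀ v, a.det • W u v = 0) (fun v => by rw [map_zero, LinearMap.zero_apply, smul_zero])
    (fun m m' h h' v => by rw [map_add, LinearMap.add_apply, smul_add, h, h', add_zero])
    (fun r m h v => by rw [map_smul, LinearMap.smul_apply, smul_comm, h, smul_zero]) ?_ ?_ u v
  · intro k
    exact key (fun v => a.det • W (y k) v = 0) (by rw [map_zero, smul_zero])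
      (fun m m' h h' => by rw [map_add, smul_add, h, h', add_zero])
      (fun r m h => by rw [map_smul, smul_comm, h, smul_zero]) (h2 k) (h1 k)
  · intro x hx
    exact key (fun v => a.det • W x v = 0) (by rw [map_zero, smul_zero])
      (fun m m' h h' => by rw [map_add, smul_add, h, h', add_zero])
      (fun r m h => by rw [map_smul, smul_comm, h, smul_zero])
      (fun k => by rw [hWs (y k) x, smul_neg, h1 k x hx, neg_zero]) (fun x' hx' => by rw [hX x hx x' hx', smul_zero])

end alt

/-- The kernel of `Ω[B⁄ℤ] → Ω[B⁄A]` is spanned by `dx₀`, `dx₁`. -/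
theorem ker_map_le {A B : Type u} [CommRing A] [CommRing B] [Algebra A B] (F : Fr A (Fin 2)) (z : Ω[B⁄ℤ])
    (hz : KaehlerDifferential.map ℤ A B B z = 0) :
    z ∈ Submodule.span B {D ℤ B (algebraMap A B (F.x 0)), D ℤ B (algebraMap A B (F.x 1))} := by
  obtain ⟨t, rfl⟩ := (KaehlerDifferential.exact_mapBaseChange_map ℤ A B z).mp hz
  clear hz
  induction t using TensorProduct.induction_on with
  | zero => rw [map_zero]; exact Submodule.zero_mem _
  | add s t hs ht => rw [map_add]; exact Submodule.add_mem _ hs ht
  | tmul b ω =>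
    rw [mapBaseChange_tmul]
    refine Submodule.smul_mem _ _ ?_
    have h1 : ∀ (a : A) (i : Fin 2), KaehlerDifferential.map ℤ ℤ A B (a • D ℤ A (F.x i)) =
        algebraMap A B a • D ℤ B (algebraMap A B (F.x i)) := by
      intro a i
      rw [map_smul, map_D, algebraMap_smul]
    rw [expand F ω, Fin.sum_univ_two, map_add, h1, h1]
    exact Submodule.add_mem _ (Submodule.smul_mem _ _ (Submodule.subset_span (Set.mem_insert _ _)))
      (Submodule.smul_mem _ _ (Submodule.subset_span (Set.mem_insert_of_mem _ rfl)))

/-- **The zeroth Fitting ideal maps two-forms to multiples of `dx₀ ∧ dx₁`**. -/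
theorem fitt_smul {A B : Type u} [CommRing A] [CommRing B] [Algebra A B] (F : Fr A (Fin 2)) {d : B}
    (hd : d ∈ Fitt.ideal B (Ω[B⁄A]) 0) (η : Om2 B) :
    ∃ c : B, d • η = c • w (D ℤ B (algebraMap A B (F.x 0))) (D ℤ B (algebraMap A B (F.x 1))) := by
  set x₀ := D ℤ B (algebraMap A B (F.x 0)) with hx₀
  set x₁ := D ℤ B (algebraMap A B (F.x 1)) with hx₁
  let S : Submodule B (Om2 B) := Submodule.span B {w x₀ x₁}
  suffices h : d • η ∈ S by
    obtain ⟨c, hc⟩ := Submodule.mem_span_singleton.mp h
    exact ⟨c, hc.symm⟩
  revert η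
  refine Submodule.span_induction ?_ ?_ ?_ ?_ hd
  · rintro _ ⟨n, x, a, hx, ha, rfl⟩ η
    choose y hy using fun j => KaehlerDifferential.map_surjective ℤ A B (x j)
    let X : Submodule B (Ω[B⁄ℤ]) := Submodule.span B {x₀, x₁}
    let W : Ω[B⁄ℤ] →ₗ[B] Ω[B⁄ℤ] →ₗ[B] (Om2 B ⧸ S) := (wB (B := B)).compr₂ S.mkQ
    have hWa : ∀ u v, W u v = S.mkQ (w u v) := fun u v => rfl
    have hW : ∀ m, W m m = 0 := fun m => by rw [hWa, w_self, map_zero]
    have h01 : W x₀ x₁ = 0 := by
      rw [hWa, Submodule.mkQ_apply, Submodule.Quotient.mk_eq_zero]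
      exact Submodule.subset_span rfl
    have h10 : W x₁ x₀ = 0 := by
      rw [hWa, w_swap, map_neg, ← hWa, h01, neg_zero]
    have hX : ∀ z ∈ X, ∀ z' ∈ X, W z z' = 0 := by
      intro z hz z' hz'
      obtain ⟨b, c, rfl⟩ := Submodule.mem_span_pair.mp hz
      obtain ⟨b', c', rfl⟩ := Submodule.mem_span_pair.mp hz'
      simp only [map_add, map_smul, LinearMap.add_apply, LinearMap.smul_apply, hW, h01, h10, smul_zero, add_zero]
    have hrel : ∀ i, ∑ j, a i j • y j ∈ X := by
      intro i
      refine ker_map_le F _ ?_
      have : ∑ j, a i j • x j = 0 := ha i (by omega)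
      rw [← this, map_sum]
      exact Finset.sum_congr rfl fun j _ => by rw [← hy, map_smul]
    have hgen : Submodule.span B (Set.range y) ⊔ X = ⊤ := by
      rw [eq_top_iff]
      rintro z -
      have h1 : KaehlerDifferential.map ℤ A B B z ∈ Submodule.span B (Set.range x) := by rw [hx]; trivial
      obtain ⟨c, hc⟩ := (Submodule.mem_span_range_iff_exists_fun B).mp h1
      have h2 : z - ∑ j, c j • y j ∈ X := by
        refine ker_map_le F _ ?_
        rw [map_sub, ← hc, map_sum, sub_eq_zero]
        exact Finset.sum_congr rfl fun j _ => by rw [← hy, map_smul]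
      have h3 : z = ∑ j, c j • y j + (z - ∑ j, c j • y j) := by abel
      rw [h3]
      exact Submodule.add_mem_sup (Submodule.sum_mem _ fun j _ => Submodule.smul_mem _ _ (Submodule.subset_span ⟨j, rfl⟩)) h2
    have main := det_smul_all W hW X hX a y hrel hgen
    induction η using om2_induction with
    | h0 => rw [smul_zero]; exact S.zero_mem
    | hadd z z' hz hz' => rw [smul_add]; exact S.add_mem hz hz'
    | hw u v =>
      have := main u v
      rw [hWa, ← map_smul, Submodule.mkQ_apply, Submodule.Quotient.mk_eq_zero] at this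
      exact this
  · intro η
    rw [zero_smul]
    exact S.zero_mem
  · intro d d' _ _ h h' η
    rw [add_smul]
    exact S.add_mem (h η) (h' η)
  · intro b d _ h η
    rw [smul_eq_mul, mul_smul]
    exact S.smul_mem _ (h η)

end K103.FitW
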