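import Groth.Agent.Smoothing.K359.SmoothLift
import Groth.Agent.FlatA.FibreNilpotent
import Mathlib.RingTheory.Smooth.Fiber
import Mathlib.RingTheory.Etale.Basic
import Mathlib.RingTheory.Flat.FaithfullyFlat.Basic

/-!
# Lifting finite flat algebras, smooth over `R ⧸ I`, to smooth algebras over `R`

`R` a ring, `I` a nilpotent ideal, `A` a smooth `R`-algebra, `B` a finite `A`-algebra which is killed by `I`, smooth
over `R ⧸ I` and flat over `A ⧸ I A`.  Then there is a finite projective `A`-algebra `B'`, smooth over `R`,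
with `B' ⧸ I B' = B` (`exists_lift`).  If `B[1/g]` is unramified over `A` then `B'[1/g]` is étale over `A`
(`Lift.etale_away`).
-/

set_option autoImplicit false
set_option linter.unusedSectionVars false

universe u v w

open TensorProduct

namespace K103.SmLift

/-! ### Nakayama for nilpotent ideals -/

section nak

variable {A : Type u} [CommRing A] (I : Ideal A) (hI : IsNilpotent I)

include hI in
theorem eq_top_of_sup {M : Type v} [AddCommGroup M] [Module A M] (N : Submodule A M)
    (h : N ⊔ I • (⊤ : Submodule A M) = ⊤) : N = ⊤ := by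
  have key : ∀ n : ℕ, N ⊔ I ^ n • (⊤ : Submodule A M) = ⊤ := by
    intro n
    induction n with
    | zero => rw [pow_zero, Ideal.one_eq_top, Submodule.top_smul, sup_top_eq]
    | succ n ih =>
      have h1 : I ^ n • (⊤ : Submodule A M) ≤ N ⊔ I ^ (n + 1) • (⊤ : Submodule A M) := by
        conv_lhs => rw [← h]
        rw [Submodule.smul_sup, ← Submodule.mul_smul, ← pow_succ]
        exact sup_le_sup Submodule.smul_le_right le_rfl
      rw [eq_top_iff]
      conv_lhs => rw [← ih]
      exact sup_le le_sup_left h1
  obtain ⟨n, hn⟩ := hI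
  have := key n
  rw [hn, Ideal.zero_eq_bot, Submodule.bot_smul, sup_bot_eq] at this
  exact this

include hI in
theorem subsingleton_of_nilpotent {M : Type v} [AddCommGroup M] [Module A M]
    (h : I • (⊤ : Submodule A M) = ⊤) : Subsingleton M := by
  have := eq_top_of_sup I hI (⊥ : Submodule A M) (by rw [h, sup_top_eq])
  exact (Submodule.subsingleton_iff A).mp (subsingleton_of_bot_eq_top this)

include hI in
theorem finite_of_surjective {M : Type v} [AddCommGroup M] [Module A M] {M₀ : Type w} [AddCommGroup M₀] [Module A M₀]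
    [Module.Finite A M₀] (π : M →ₗ[A] M₀) (hπ : Function.Surjective π) (hk : LinearMap.ker π ≤ I • (⊤ : Submodule A M)) :
    Module.Finite A M := by
  classical
  obtain ⟨s, hs⟩ := (Module.Finite.fg_top : (⊤ : Submodule A M₀).FG)
  choose σ hσ using hπ
  refine ⟨⟨s.image σ, ?_⟩⟩
  refine eq_top_of_sup I hI _ ?_
  rw [eq_top_iff]
  refine le_trans ?_ (sup_le_sup le_rfl hk)
  rw [← Submodule.comap_map_eq, Submodule.map_span, Finset.coe_image, ← Set.image_comp]
  have : (π ∘ σ) '' (s : Set M₀) = s := by
    have h1 : (π ∘ σ) = id := funext hσ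
    rw [h1, Set.image_id]
  rw [this, hs, Submodule.comap_top]

end nak

/-! ### Unramified and étale algebras along nilpotent ideals -/

section unram

variable {A : Type u} {B : Type v} [CommRing A] [CommRing B] [Algebra A B] (I : Ideal A) (hI : IsNilpotent I)

include hI in
theorem isNilpotent_map : IsNilpotent (I.map (algebraMap A B)) := by
  obtain ⟨n, hn⟩ := hI
  refine ⟨n, ?_⟩
  rw [← Ideal.map_pow, hn, Ideal.zero_eq_bot, Ideal.map_bot, Ideal.zero_eq_bot]

include hI in
/-- `A → B` is formally unramified if `A → B ⧸ I B` is, `I` nilpotent. -/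
theorem formallyUnramified_of_quotient [Algebra.FormallyUnramified A (B ⧸ I.map (algebraMap A B))] :
    Algebra.FormallyUnramified A B := by
  constructor
  refine subsingleton_of_nilpotent (I.map (algebraMap A B)) (isNilpotent_map I hI) ?_
  rw [← Submodule.Quotient.subsingleton_iff]
  refine (TensorProduct.quotTensorEquivQuotSMul (Ω[B⁄A]) (I.map (algebraMap A B))).symm.toEquiv.subsingleton_congr.mpr ?_
  have hs : Function.Surjective (algebraMap B (B ⧸ I.map (algebraMap A B))) := Ideal.Quotient.mk_surjective
  refine subsingleton_of_forall_eq 0 fun y => ?_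
  have h1 : KaehlerDifferential.mapBaseChange A B (B ⧸ I.map (algebraMap A B)) y = 0 := Subsingleton.elim _ _
  obtain ⟨z, rfl⟩ := (KaehlerDifferential.exact_kerCotangentToTensor_mapBaseChange A B _ hs y).mp h1
  obtain ⟨⟨k, hk⟩, rfl⟩ := Ideal.toCotangent_surjective _ z
  rw [KaehlerDifferential.kerCotangentToTensor_toCotangent]
  have hk' : k ∈ I.map (algebraMap A B) := Ideal.Quotient.eq_zero_iff_mem.mp hk
  change (1 : B ⧸ I.map (algebraMap A B)) ⊗ₜ[B] (KaehlerDifferential.D A B k) = 0
  clear hk h1
  refine Submodule.span_induction ?_ ?_ ?_ ?_ hk'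
  · rintro _ ⟨a, ha, rfl⟩
    rw [Derivation.map_algebraMap, tmul_zero]
  · rw [map_zero, tmul_zero]
  · intro x y _ _ hx hy
    rw [map_add, tmul_add, hx, hy, add_zero]
  · intro b x hx h
    rw [smul_eq_mul, Derivation.leibniz, tmul_add, tmul_smul, h, smul_zero, zero_add, tmul_smul, TensorProduct.smul_tmul']
    have : x • (1 : B ⧸ I.map (algebraMap A B)) = 0 := by
      rw [Algebra.smul_def, mul_one]
      exact Ideal.Quotient.eq_zero_iff_mem.mpr hx
    rw [this, zero_tmul]

include hI in
/-- `A → B` is formally unramified if it is so modulo a nilpotent ideal. -/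
theorem formallyUnramified_of_nilpotent {B₀ : Type w} [CommRing B₀] [Algebra A B₀] (π : B →ₐ[A] B₀)
    (hπ : Function.Surjective π) (hk : RingHom.ker π = I.map (algebraMap A B)) [Algebra.FormallyUnramified A B₀] :
    Algebra.FormallyUnramified A B := by
  have e : (B ⧸ I.map (algebraMap A B)) ≃ₐ[A] B₀ :=
    (Ideal.quotientEquivAlgOfEq A hk.symm).trans (Ideal.quotientKerAlgEquivOfSurjective hπ)
  have := Algebra.FormallyUnramified.of_equiv e.symm
  exact formallyUnramified_of_quotient I hI

include hI in
/-- A flat algebra of finite presentation is étale if it is unramified modulo a nilpotent ideal. -/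
theorem etale_of_nilpotent [Module.Flat A B] [Algebra.FinitePresentation A B] {B₀ : Type w} [CommRing B₀]
    [Algebra A B₀] (π : B →ₐ[A] B₀) (hπ : Function.Surjective π) (hk : RingHom.ker π = I.map (algebraMap A B))
    [Algebra.FormallyUnramified A B₀] : Algebra.Etale A B :=
  have := formallyUnramified_of_nilpotent I hI π hπ hk
  Algebra.Etale.of_formallyUnramified_of_flat

end unram

/-! ### The lift -/

section main

variable {R : Type u} [CommRing R] (I : Ideal R) (hI : IsNilpotent I)
variable (A : Type u) [CommRing A] [Algebra R A]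
variable (B : Type u) [CommRing B] [Algebra R B] [Algebra A B] [IsScalarTower R A B]

/-- `B'` is a finite projective `A`-algebra, smooth over `R`, with `B' ⧸ I B' = B`. -/
structure IsLift (B' : Type u) [CommRing B'] [Algebra R B'] [Algebra A B'] [IsScalarTower R A B'] (π : B' →ₐ[A] B) :
    Prop where
  surj : Function.Surjective π
  ker : RingHom.ker π = (I.map (algebraMap R A)).map (algebraMap A B')
  smooth : Algebra.Smooth R B'
  finite : Module.Finite A B'
  flat : Module.Flat A B'
  fp : Algebra.FinitePresentation A B'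
  proj : Module.Projective A B'

include hI in
/-- **Smooth lifts of finite flat algebras**. -/
theorem exists_lift [Algebra.Smooth R A] [Algebra (R ⧸ I) B] [IsScalarTower R (R ⧸ I) B] [Algebra.Smooth (R ⧸ I) B]
    [Module.Finite A B] [Algebra (A ⧸ I.map (algebraMap R A)) B] [IsScalarTower A (A ⧸ I.map (algebraMap R A)) B]
    [Module.Flat (A ⧸ I.map (algebraMap R A)) B] :
    ∃ (B' : Type u) (_ : CommRing B') (_ : Algebra R B') (_ : Algebra A B') (_ : IsScalarTower R A B')
      (π : B' →ₐ[A] B), IsLift I A B B' π := by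
  obtain ⟨B', _, _, hsm, ⟨e⟩⟩ := K359.SmoothLift.main (A₀ := B) I
  let π₀ : B' →ₐ[R] B := (e.restrictScalars R).toAlgHom.comp (Ideal.Quotient.mkₐ R (I.map (algebraMap R B')))
  have hπ₀ : Function.Surjective π₀ := (e.restrictScalars R).surjective.comp Ideal.Quotient.mk_surjective
  have hk₀ : RingHom.ker π₀ = I.map (algebraMap R B') := by
    ext x
    rw [RingHom.mem_ker]
    constructor
    · intro h
      exact Ideal.Quotient.eq_zero_iff_mem.mp (e.injective (h.trans (map_zero e).symm))
    · intro h
      change e (Ideal.Quotient.mk _ x) = 0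
      rw [Ideal.Quotient.eq_zero_iff_mem.mpr h, map_zero]
  have hnil : IsNilpotent (RingHom.ker π₀) := by
    rw [hk₀]
    exact isNilpotent_map I hI
  let φ : A →ₐ[R] B' := Algebra.FormallySmooth.liftOfSurjective (IsScalarTower.toAlgHom R A B) π₀ hπ₀ hnil
  have hφ : ∀ a, π₀ (φ a) = algebraMap A B a := fun a =>
    Algebra.FormallySmooth.liftOfSurjective_apply (IsScalarTower.toAlgHom R A B) π₀ hπ₀ hnil a
  let _ : Algebra A B' := φ.toRingHom.toAlgebra
  have hst : IsScalarTower R A B' := IsScalarTower.of_algebraMap_eq fun r => (φ.commutes r).symm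
  let π : B' →ₐ[A] B := { π₀ with commutes' := hφ }
  have hπ : Function.Surjective π := hπ₀
  have hk : RingHom.ker π = (I.map (algebraMap R A)).map (algebraMap A B') := by
    rw [Ideal.map_map, ← IsScalarTower.algebraMap_eq]
    exact hk₀
  have hJ : IsNilpotent (I.map (algebraMap R A)) := isNilpotent_map I hI
  have hkl : LinearMap.ker π.toLinearMap = I.map (algebraMap R A) • (⊤ : Submodule A B') := by
    rw [Ideal.smul_top_eq_map, ← hk]
    rfl
  have hfin : Module.Finite A B' := finite_of_surjective _ hJ π.toLinearMap hπ hkl.le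
  have hflatR : Module.Flat R B' := inferInstance
  have hflat : Module.Flat A B' := by
    refine Groth.Agent.FlatA.FibreNilpotent.flat_of_isNilpotent_of_fibre (R := R) (S := A) (M := B') I hI ?_
    let e₁ : ((A ⧸ I.map (algebraMap R A)) ⊗[A] B') ≃ₗ[A] B :=
      (TensorProduct.quotTensorEquivQuotSMul B' (I.map (algebraMap R A))).trans
        ((Submodule.quotEquivOfEq _ _ hkl.symm).trans (π.toLinearMap.quotKerEquivOfSurjective hπ))
    let e₂ : ((A ⧸ I.map (algebraMap R A)) ⊗[A] B') ≃ₗ[A ⧸ I.map (algebraMap R A)] B :=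
      e₁.extendScalarsOfSurjective Ideal.Quotient.mk_surjective
    exact Module.Flat.of_linearEquiv e₂
  have hfp : Algebra.FinitePresentation A B' := .of_restrict_scalars_finitePresentation R A B'
  have hfpm : Module.FinitePresentation A B' := .of_finite_of_finitePresentation A B'
  exact ⟨B', _, _, _, hst, π, ⟨hπ, hk, hsm, hfin, hflat, hfp, Module.Flat.projective_of_finitePresentation⟩⟩

variable {I A B} in
include hI in
/-- If `B[1/g]` is unramified over `A` then `B'[1/g]` is étale over `A`. -/
theorem IsLift.etale_away {B' : Type u} [CommRing B'] [Algebra R B'] [Algebra A B'] [IsScalarTower R A B']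
    {π : B' →ₐ[A] B} (h : IsLift I A B B' π) (g : B') (C : Type u) [CommRing C] [Algebra B' C] [Algebra A C]
    [IsScalarTower A B' C] [IsLocalization.Away g C] (C₀ : Type u) [CommRing C₀] [Algebra B C₀] [Algebra A C₀]
    [IsScalarTower A B C₀] [IsLocalization.Away (π g) C₀] [Algebra.FormallyUnramified A C₀] : Algebra.Etale A C := by
  have := h.flat
  have := h.fp
  have hfl : Module.Flat B' C := IsLocalization.flat C (Submonoid.powers g)
  have : Module.Flat A C := Module.Flat.trans A B' C
  have : Algebra.FinitePresentation B' C := IsLocalization.Away.finitePresentation g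
  have : Algebra.FinitePresentation A C := Algebra.FinitePresentation.trans A B' C
  let ρ₀ : C →+* C₀ := IsLocalization.Away.map C C₀ π.toRingHom g
  have hρ₀ : ∀ b, ρ₀ (algebraMap B' C b) = algebraMap B C₀ (π b) := fun b => IsLocalization.map_eq _ b
  let ρ : C →ₐ[A] C₀ :=
    { ρ₀ with
      commutes' := fun a => by
        change ρ₀ (algebraMap A C a) = _
        rw [IsScalarTower.algebraMap_apply A B' C, hρ₀, AlgHom.commutes, ← IsScalarTower.algebraMap_apply] }
  refine etale_of_nilpotent (I.map (algebraMap R A)) (isNilpotent_map I hI) ρ ?_ ?_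
  · intro y
    obtain ⟨⟨b, ⟨_, n, rfl⟩⟩, hb⟩ := IsLocalization.surj (Submonoid.powers (π g)) y
    obtain ⟨b', rfl⟩ := h.surj b
    refine ⟨IsLocalization.mk' C b' (⟨g ^ n, n, rfl⟩ : Submonoid.powers g), ?_⟩
    have hu : IsUnit (algebraMap B C₀ (π g ^ n)) := IsLocalization.map_units C₀ (⟨_, n, rfl⟩ : Submonoid.powers (π g))
    refine hu.mul_right_cancel ?_
    rw [hb]
    change ρ₀ _ * _ = _
    have : algebraMap B C₀ (π g ^ n) = ρ₀ (algebraMap B' C (g ^ n)) := by rw [hρ₀, map_pow π]
    rw [this, ← map_mul]
    have h2 : IsLocalization.mk' C b' (⟨g ^ n, n, rfl⟩ : Submonoid.powers g) * algebraMap B' C (g ^ n) = algebraMap B' C b' :=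
      IsLocalization.mk'_spec C b' (⟨g ^ n, n, rfl⟩ : Submonoid.powers g)
    rw [h2, hρ₀]
  · ext y
    constructor
    · intro hy
      obtain ⟨b, ⟨_, n, rfl⟩, rfl⟩ := IsLocalization.exists_mk'_eq (Submonoid.powers g) y
      have h1 : ρ₀ (algebraMap B' C b) = 0 := by
        have h2 : IsLocalization.mk' C b (⟨g ^ n, n, rfl⟩ : Submonoid.powers g) * algebraMap B' C (g ^ n) = algebraMap B' C b :=
          IsLocalization.mk'_spec C b (⟨g ^ n, n, rfl⟩ : Submonoid.powers g)
        rw [← h2, map_mul]
        rw [show ρ₀ (IsLocalization.mk' C b (⟨g ^ n, n, rfl⟩ : Submonoid.powers g)) = 0 from hy, zero_mul]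
      rw [hρ₀] at h1
      obtain ⟨⟨_, m, rfl⟩, hm⟩ := (IsLocalization.map_eq_zero_iff (Submonoid.powers (π g)) C₀ _).mp h1
      have h3 : g ^ m * b ∈ RingHom.ker π := by
        rw [RingHom.mem_ker, map_mul, map_pow]
        exact hm
      rw [h.ker] at h3
      rw [IsLocalization.mk'_mem_iff]
      have h4 : algebraMap B' C (g ^ m * b) ∈ (I.map (algebraMap R A)).map (algebraMap A C) := by
        rw [IsScalarTower.algebraMap_eq A B' C, ← Ideal.map_map]
        exact Ideal.mem_map_of_mem _ h3
      rw [map_mul] at h4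
      exact (Ideal.unit_mul_mem_iff_mem _ (IsLocalization.map_units C (⟨_, m, rfl⟩ : Submonoid.powers g))).mp h4
    · intro hy
      have : (I.map (algebraMap R A)).map (algebraMap A C) ≤ RingHom.ker ρ := by
        rw [Ideal.map_le_iff_le_comap]
        intro a ha
        change ρ (algebraMap A C a) = 0
        rw [AlgHom.commutes]
        have h5 : algebraMap A B' a ∈ RingHom.ker π := by
          rw [h.ker]
          exact Ideal.mem_map_of_mem _ ha
        rw [RingHom.mem_ker, AlgHom.commutes] at h5
        rw [IsScalarTower.algebraMap_apply A B C₀, h5, map_zero]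
      exact this hy

end main

end K103.SmLift
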