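import Groth.Agent.EtCoh.K56.TorS
import Groth.Agent.FrobAlg.K675.EtalePB
import Mathlib.RingTheory.Etale.Basic
import Mathlib.RingTheory.Kaehler.Polynomial
import Mathlib.RingTheory.Kaehler.TensorProduct
import Mathlib.RingTheory.Flat.EquationalCriterion
import Mathlib.RingTheory.TensorProduct.Quotient

/-!
# Toric chart rings of level `n` exist over étale coordinates

`B : WB p n k W`, `i : W[x₀, x₁] → A` étale.  There is exactly one lift `φ : A → A` of Frobenius with
`φ (x_j) = x_j ^ p`, `φ w = σ w` (`exists_phi`, `unique_phi`), and `A` with `φ` and the coordinates `x_j` is a toric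
chart ring of level `n` (`exists_tor`).
-/

set_option autoImplicit false
set_option linter.unusedSectionVars false

universe u v w

open TensorProduct KaehlerDifferential

namespace K103.Tor

/-! ### Lifting ring homomorphisms from étale algebras -/

section lift

variable {R : Type u} {A : Type v} {B : Type w} [CommRing R] [CommRing A] [CommRing B]

theorem exists_lift (i : R →+* A) (hi : i.Etale) (j : R →+* B) (I : Ideal B) (hI : IsNilpotent I) (f : A →+* B ⧸ I)
    (h : ∀ r, f (i r) = Ideal.Quotient.mk I (j r)) :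
    ∃ g : A →+* B, (∀ r, g (i r) = j r) ∧ ∀ a, Ideal.Quotient.mk I (g a) = f a := by
  algebraize [i, j]
  have : Algebra.Etale R A := hi
  let f' : A →ₐ[R] B ⧸ I := { f with commutes' := h }
  obtain ⟨g, hg⟩ := Algebra.FormallySmooth.exists_lift I hI f'
  exact ⟨g.toRingHom, fun r => g.commutes r, fun a => AlgHom.congr_fun hg a⟩

theorem lift_ext (i : R →+* A) (hi : i.Etale) (I : Ideal B) (hI : IsNilpotent I) (g g' : A →+* B)
    (h : ∀ r, g (i r) = g' (i r)) (h' : ∀ a, Ideal.Quotient.mk I (g a) = Ideal.Quotient.mk I (g' a)) : g = g' := by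
  algebraize [i]
  have : Algebra.Etale R A := hi
  let _ : Algebra R B := (g.comp i).toAlgebra
  let G : A →ₐ[R] B := { g with commutes' := fun r => rfl }
  let G' : A →ₐ[R] B := { g' with commutes' := fun r => (h r).symm }
  have : G = G' := Algebra.FormallyUnramified.ext I hI h'
  exact RingHom.ext fun a => AlgHom.congr_fun this a

end lift

/-! ### Lifts of Frobenius -/

section frob

variable {p : ℕ} [hp : Fact p.Prime]

theorem exists_frob {R : Type u} [CommRing R] (h : (p : R) = 0) : ∃ F : R →+* R, ∀ x, F x = x ^ p := by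
  cases subsingleton_or_nontrivial R
  · exact ⟨RingHom.id R, fun x => Subsingleton.elim _ _⟩
  · have : CharP R p := (CharP.charP_iff_prime_eq_zero hp.out).mpr h
    exact ⟨frobenius R p, fun x => rfl⟩

theorem isNilpotent_span {R : Type u} [CommRing R] {n : ℕ} (h : (p : R) ^ n = 0) :
    IsNilpotent (Ideal.span {(p : R)}) := by
  refine ⟨n, ?_⟩
  rw [Ideal.span_singleton_pow, h, Ideal.zero_eq_bot, Ideal.span_singleton_eq_bot]

theorem mk_eq_iff {R : Type u} [CommRing R] (a b : R) :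
    Ideal.Quotient.mk (Ideal.span {(p : R)}) a = Ideal.Quotient.mk (Ideal.span {(p : R)}) b ↔ ∃ c, a = b + (p : R) * c := by
  rw [Ideal.Quotient.eq, Ideal.mem_span_singleton]
  constructor
  · rintro ⟨c, hc⟩
    exact ⟨c, by rw [← hc]; ring⟩
  · rintro ⟨c, rfl⟩
    exact ⟨c, by ring⟩

theorem mk_p {R : Type u} [CommRing R] : ((p : ℕ) : R ⧸ Ideal.span {(p : R)}) = 0 := by
  rw [← map_natCast (Ideal.Quotient.mk (Ideal.span {(p : R)})) p]
  exact Ideal.Quotient.eq_zero_iff_mem.mpr (Ideal.mem_span_singleton_self _)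

/-- Uniqueness of the lift of Frobenius. -/
theorem unique_phi {R : Type v} [CommRing R] {A : Type u} [CommRing A] {n : ℕ} (i : R →+* A) (hi : i.Etale)
    (hpn : (p : A) ^ n = 0) (φ φ' : A →+* A) (h : ∀ r, φ (i r) = φ' (i r))
    (h1 : ∀ a, ∃ b, φ a = a ^ p + (p : A) * b) (h2 : ∀ a, ∃ b, φ' a = a ^ p + (p : A) * b) : φ = φ' := by
  refine lift_ext i hi (Ideal.span {(p : A)}) (isNilpotent_span hpn) φ φ' h fun a => ?_
  rw [(mk_eq_iff _ _).mpr (h1 a), (mk_eq_iff _ _).mpr (h2 a)]

/-- Existence of the lift of Frobenius. -/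
theorem exists_phi_of_etale {P : Type v} [CommRing P] {A : Type u} [CommRing A] {n : ℕ} (i : P →+* A) (hi : i.Etale)
    (hpn : (p : A) ^ n = 0) (σ : P →+* P) (hσ : ∀ a, ∃ b, σ a = a ^ p + (p : P) * b) :
    ∃ φ : A →+* A, (∀ r, φ (i r) = i (σ r)) ∧ ∀ a, ∃ b, φ a = a ^ p + (p : A) * b := by
  obtain ⟨F, hF⟩ := exists_frob (p := p) (R := A ⧸ Ideal.span {(p : A)}) mk_p
  obtain ⟨φ, h1, h2⟩ := exists_lift i hi (i.comp σ) (Ideal.span {(p : A)}) (isNilpotent_span hpn)
    (F.comp (Ideal.Quotient.mk _)) (by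
      intro r
      rw [RingHom.comp_apply, hF, RingHom.comp_apply, ← map_pow, ← map_pow, mk_eq_iff]
      obtain ⟨b, hb⟩ := hσ r
      refine ⟨-i b, ?_⟩
      rw [hb, map_add, map_mul, map_natCast]
      ring)
  refine ⟨φ, h1, fun a => ?_⟩
  rw [← mk_eq_iff, h2, RingHom.comp_apply, hF, map_pow]

/-- The lift of Frobenius on polynomials. -/
theorem exists_sigma {W : Type u} [CommRing W] (ι : Type v) (σ : W →+* W) (hσ : ∀ a, ∃ b, σ a = a ^ p + (p : W) * b) :
    ∃ τ : MvPolynomial ι W →+* MvPolynomial ι W, (∀ w, τ (.C w) = .C (σ w)) ∧ (∀ j, τ (.X j) = .X j ^ p) ∧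
      ∀ a, ∃ b, τ a = a ^ p + (p : MvPolynomial ι W) * b := by
  let τ : MvPolynomial ι W →+* MvPolynomial ι W := MvPolynomial.eval₂Hom (MvPolynomial.C.comp σ) (fun j => .X j ^ p)
  have hC : ∀ w, τ (.C w) = .C (σ w) := fun w => MvPolynomial.eval₂Hom_C _ _ _
  have hX : ∀ j, τ (.X j) = .X j ^ p := fun j => MvPolynomial.eval₂Hom_X' _ _ _
  refine ⟨τ, hC, hX, ?_⟩
  obtain ⟨F, hF⟩ := exists_frob (p := p) (R := MvPolynomial ι W ⧸ Ideal.span {(p : MvPolynomial ι W)}) mk_p
  have key : (Ideal.Quotient.mk (Ideal.span {(p : MvPolynomial ι W)})).comp τ = F.comp (Ideal.Quotient.mk _) := by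
    refine MvPolynomial.ringHom_ext (fun w => ?_) (fun j => ?_)
    · rw [RingHom.comp_apply, hC, RingHom.comp_apply, hF, ← map_pow, mk_eq_iff]
      obtain ⟨b, hb⟩ := hσ w
      refine ⟨.C b, ?_⟩
      rw [hb, map_add, map_mul, map_natCast, map_pow]
    · rw [RingHom.comp_apply, hX, RingHom.comp_apply, hF, ← map_pow]
  intro a
  rw [← mk_eq_iff, map_pow, ← hF]
  exact RingHom.congr_fun key a

end frob

/-! ### Flatness over `ℤ/p^n` -/

section flat

theorem flat_tor {p n : ℕ} {W : Type u} {A : Type v} [CommRing W] [CommRing A] [Algebra W A] [Module.Flat W A]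
    (h : ∀ i ≤ n, ∀ a : W, (p : W) ^ i * a = 0 → ∃ b, a = (p : W) ^ (n - i) * b) (i : ℕ) (hi : i ≤ n) (a : A)
    (ha : (p : A) ^ i * a = 0) : ∃ b, a = (p : A) ^ (n - i) * b := by
  have h1 : ∑ j : Fin 1, (fun _ : Fin 1 => (p : W) ^ i) j • (fun _ : Fin 1 => a) j = 0 := by
    rw [Fin.sum_univ_one, Algebra.smul_def, map_pow, map_natCast]
    exact ha
  have h2 := (Module.Flat.iff_forall_isTrivialRelation (R := W) (M := A)).mp inferInstance h1
  obtain ⟨κ, c, y, h3, h4⟩ := h2
  have h5 : ∀ k, ∃ b, c 0 k = (p : W) ^ (n - i) * b := fun k => h i hi _ (by simpa using h4 k)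
  choose b hb using h5
  refine ⟨∑ k, b k • y k, ?_⟩
  have h6 := h3 0
  simp only at h6
  rw [h6, Finset.mul_sum]
  refine Finset.sum_congr rfl fun k _ => ?_
  rw [hb, Algebra.smul_def, Algebra.smul_def, map_mul, map_pow, map_natCast, mul_assoc]

end flat

/-! ### Bases -/

section bas

variable {p n : ℕ}

theorem bijective_of_mod_p {A : Type u} [CommRing A] {ι : Type v} [Fintype ι] (φ : A →+* A) (m : ι → A)
    (hpn : (p : A) ^ n = 0) (hflat : ∀ i ≤ n, ∀ a : A, (p : A) ^ i * a = 0 → ∃ b, a = (p : A) ^ (n - i) * b)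
    (hinj : ∀ f : ι → A, (∃ b, ∑ e, φ (f e) * m e = (p : A) * b) → ∃ g : ι → A, ∀ e, f e = (p : A) * g e)
    (hsurj : ∀ a : A, ∃ (f : ι → A) (b : A), a = ∑ e, φ (f e) * m e + (p : A) * b) :
    Function.Bijective (fun f : ι → A => ∑ e, φ (f e) * m e) := by
  let E : (ι → A) →+ A :=
    { toFun := fun f => ∑ e, φ (f e) * m e
      map_zero' := by simp
      map_add' := fun f g => by simp [add_mul, Finset.sum_add_distrib] }
  have hE : ∀ f, E f = ∑ e, φ (f e) * m e := fun f => rfl
  have hEp : ∀ (j : ℕ) (f : ι → A), E (fun e => (p : A) ^ j * f e) = (p : A) ^ j * E f := by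
    intro j f
    rw [hE, hE, Finset.mul_sum]
    refine Finset.sum_congr rfl fun e _ => ?_
    rw [map_mul, map_pow, map_natCast, mul_assoc]
  constructor
  · have key : ∀ f : ι → A, E f = 0 → ∀ j ≤ n, ∃ g : ι → A, ∀ e, f e = (p : A) ^ j * g e := by
      intro f hf j
      induction j with
      | zero => exact fun _ => ⟨f, fun e => by rw [pow_zero, one_mul]⟩
      | succ j ih =>
        intro hj
        obtain ⟨g, hg⟩ := ih (by omega)
        have h1 : (p : A) ^ j * E g = 0 := by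
          rw [← hEp, ← hf]
          exact congrArg E (funext fun e => (hg e).symm)
        obtain ⟨b, hb⟩ := hflat j (by omega) _ h1
        obtain ⟨g', hg'⟩ := hinj g ⟨(p : A) ^ (n - j - 1) * b, by
          rw [← hE, hb, ← mul_assoc, ← pow_succ']
          congr 2
          omega⟩
        exact ⟨g', fun e => by rw [hg, hg', pow_succ, mul_assoc]⟩
    intro f g hfg
    have h1 : E (f - g) = 0 := by
      rw [map_sub]
      exact sub_eq_zero.mpr hfg
    obtain ⟨g', hg'⟩ := key _ h1 n le_rfl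
    funext e
    have := hg' e
    rw [hpn, zero_mul, Pi.sub_apply] at this
    exact sub_eq_zero.mp this
  · have key : ∀ (j : ℕ) (a : A), ∃ (f : ι → A) (b : A), a = E f + (p : A) ^ j * b := by
      intro j
      induction j with
      | zero => exact fun a => ⟨0, a, by rw [map_zero, zero_add, pow_zero, one_mul]⟩
      | succ j ih =>
        intro a
        obtain ⟨f, b, hb⟩ := ih a
        obtain ⟨g, c, hc⟩ := hsurj b
        refine ⟨f + fun e => (p : A) ^ j * g e, c, ?_⟩
        rw [map_add, hEp, hb, hc, ← hE]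
        ring
    intro a
    obtain ⟨f, b, hb⟩ := key n a
    refine ⟨f, ?_⟩
    rw [hb, hpn, zero_mul, add_zero]
    rfl

/-- The monomials of étale coordinates are a `p`-basis modulo `p`. -/
theorem isPB_quotient [hp : Fact p.Prime] {k W : Type u} [Field k] [CharP k p] [PerfectRing k p] [CommRing W]
    (π : W →+* k) (hπ : Function.Surjective π) (hk : RingHom.ker π = Ideal.span {(p : W)}) {A : Type v} [CommRing A]
    (i : MvPolynomial (Fin 2) W →+* A) (hi : i.Etale) [Nontrivial (A ⧸ Ideal.span {(p : A)})] :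
    K675.PBasis.IsPB p (fun e : Fin p × Fin p => (Ideal.Quotient.mk (Ideal.span {(p : A)})) (i (.X 0)) ^ (e.1 : ℕ) *
      (Ideal.Quotient.mk (Ideal.span {(p : A)})) (i (.X 1)) ^ (e.2 : ℕ)) := by
  have : CharP (A ⧸ Ideal.span {(p : A)}) p := (CharP.charP_iff_prime_eq_zero hp.out).mpr mk_p
  let P := MvPolynomial (Fin 2) W
  let I : Ideal P := Ideal.span {(p : P)}
  -- `P ⧸ p`
  let q : P →+* MvPolynomial (Fin 2) k := MvPolynomial.map π
  have hq : Function.Surjective q := MvPolynomial.map_surjective π hπ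
  have hqk : RingHom.ker q = I := by
    rw [MvPolynomial.ker_map, hk, Ideal.map_span, Set.image_singleton, map_natCast]
  let e₁ : MvPolynomial (Fin 2) k ≃+* P ⧸ I :=
    (RingHom.quotientKerEquivOfSurjective hq).symm.trans (Ideal.quotEquivOfEq hqk)
  have he₁ : ∀ a, e₁ (q a) = Ideal.Quotient.mk I a := by
    intro a
    have : (RingHom.quotientKerEquivOfSurjective hq).symm (q a) = Ideal.Quotient.mk _ a := by
      rw [RingEquiv.symm_apply_eq]
      rfl
    change Ideal.quotEquivOfEq hqk ((RingHom.quotientKerEquivOfSurjective hq).symm (q a)) = _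
    rw [this]
    rfl
  have hnt : Nontrivial (P ⧸ I) := e₁.symm.toEquiv.nontrivial
  have hcp : CharP (P ⧸ I) p := (CharP.charP_iff_prime_eq_zero hp.out).mpr mk_p
  have h1 := (K675.EtalePB.isPB_mvPolynomial_monomial p k 2).ringEquiv e₁
  -- `A ⧸ p` is étale over `P ⧸ p`
  algebraize [i]
  have hA : Algebra.Etale P A := hi
  have hI : I.map (algebraMap P A) = Ideal.span {(p : A)} := by
    rw [Ideal.map_span, Set.image_singleton, map_natCast]
  let e₂ : (A ⧸ I.map (algebraMap P A)) ≃ₐ[P ⧸ I] (P ⧸ I) ⊗[P] A :=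
    Algebra.TensorProduct.quotIdealMapEquivQuotTensor A I
  have h20 : Algebra.Etale (P ⧸ I) ((P ⧸ I) ⊗[P] A) := Algebra.Etale.baseChange P A (P ⧸ I)
  have h2 : Algebra.Etale (P ⧸ I) (A ⧸ I.map (algebraMap P A)) := Algebra.Etale.of_equiv (A := (P ⧸ I) ⊗[P] A) e₂.symm
  let e₃ : (A ⧸ I.map (algebraMap P A)) ≃+* A ⧸ Ideal.span {(p : A)} := Ideal.quotEquivOfEq hI
  let f : P ⧸ I →+* A ⧸ Ideal.span {(p : A)} :=
    (e₃ : (A ⧸ I.map (algebraMap P A)) →+* A ⧸ Ideal.span {(p : A)}).comp (algebraMap (P ⧸ I) (A ⧸ I.map (algebraMap P A)))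
  have hf : f.Etale := K675.EtalePB.etale_comp _ _ (RingHom.etale_algebraMap.mpr h2) (RingHom.Etale.of_bijective e₃.bijective)
  have hfi : ∀ a, f (Ideal.Quotient.mk I a) = Ideal.Quotient.mk _ (i a) := fun a => rfl
  have h3 := (K675.EtalePB.isPB_of_etale f hf h1).reindex (finTwoArrowEquiv (Fin p)).symm
  convert h3 using 1
  funext e
  have h4 : (MvPolynomial.monomial (K675.EtalePB.expo ((finTwoArrowEquiv (Fin p)).symm e)) (1 : k) :
      MvPolynomial (Fin 2) k) = q (.X 0 ^ (e.1 : ℕ) * .X 1 ^ (e.2 : ℕ)) := by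
    rw [map_mul, map_pow, map_pow, MvPolynomial.map_X, MvPolynomial.map_X, MvPolynomial.monomial_eq, map_one, one_mul,
      Finsupp.prod_fintype _ _ (fun _ => pow_zero _), Fin.prod_univ_two]
    rfl
  rw [Function.comp_apply, h4, he₁, hfi, map_mul, map_pow, map_pow, map_mul, map_pow, map_pow]

end bas

/-! ### The frame -/

section frame

open K611.Frame

/-- Étale coordinates give a frame of absolute differentials, if the base has none. -/
theorem exists_frame {W : Type u} [CommRing W] (hW : Subsingleton Ω[W⁄ℤ]) {A : Type u} [CommRing A] {ι : Type v}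
    (i : MvPolynomial ι W →+* A) (hi : i.Etale) : ∃ F : Fr A ι, ∀ j, F.x j = i (.X j) := by
  let P := MvPolynomial ι W
  -- `Ω[P⁄ℤ] = Ω[P⁄W]`
  have hb : Function.Bijective (KaehlerDifferential.map ℤ W P P) := by
    refine ⟨?_, KaehlerDifferential.map_surjective ℤ W P⟩
    rw [injective_iff_map_eq_zero]
    intro z hz
    obtain ⟨y, rfl⟩ := (KaehlerDifferential.exact_mapBaseChange_map ℤ W P z).mp hz
    have : Subsingleton (P ⊗[W] Ω[W⁄ℤ]) := inferInstance
    rw [Subsingleton.elim y 0, map_zero]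
  let e₁ : Ω[P⁄ℤ] ≃ₗ[P] Ω[P⁄W] := LinearEquiv.ofBijective
    ({ toFun := KaehlerDifferential.map ℤ W P P
       map_add' := map_add _
       map_smul' := fun a z => by simp } : Ω[P⁄ℤ] →ₗ[P] Ω[P⁄W]) hb
  let b₁ : Module.Basis ι P Ω[P⁄ℤ] := (KaehlerDifferential.mvPolynomialBasis W ι).map e₁.symm
  have hb₁ : ∀ j, b₁ j = D ℤ P (.X j) := by
    intro j
    rw [Module.Basis.map_apply, KaehlerDifferential.mvPolynomialBasis_apply, LinearEquiv.symm_apply_eq]
    exact (KaehlerDifferential.map_D ℤ W P P _).symm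
  algebraize [i]
  have hA : Algebra.Etale P A := hi
  let b₂ : Module.Basis ι A Ω[A⁄ℤ] := (b₁.baseChange A).map (tensorKaehlerEquivOfFormallyEtale ℤ P A)
  refine ⟨⟨fun j => i (.X j), b₂, fun j => ?_⟩, fun j => rfl⟩
  rw [Module.Basis.map_apply, Module.Basis.baseChange_apply, hb₁, tensorKaehlerEquivOfFormallyEtale_apply,
    mapBaseChange_tmul, one_smul, map_D]
  rfl

end frame

/-! ### Toric chart rings -/

section main

open K56.T4

variable {p n : ℕ} [hp : Fact p.Prime]

/-- **Étale algebras over `W[x₀, x₁]` are toric chart rings**. -/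
theorem exists_tor {k W : Type u} [Field k] [CharP k p] [PerfectRing k p] [CommRing W] (B : WB p n k W) {A : Type u}
    [CommRing A] (i : MvPolynomial (Fin 2) W →+* A) (hi : i.Etale) :
    ∃ T : Tor p n A, (∀ j, T.fr.x j = i (.X j)) ∧ ∀ w, T.φ (i (.C w)) = i (.C (B.σ w)) := by
  obtain ⟨F, hF⟩ := exists_frame B.om i hi
  obtain ⟨τ, hτC, hτX, hτ⟩ := exists_sigma (p := p) (Fin 2) B.σ B.hσ
  have hpn : (p : A) ^ n = 0 := by
    have := congrArg (i.comp MvPolynomial.C) B.pn
    rwa [map_pow, map_natCast, map_zero] at this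
  obtain ⟨φ, hφi, hφ⟩ := exists_phi_of_etale i hi hpn τ hτ
  have hflat : ∀ j ≤ n, ∀ a : A, (p : A) ^ j * a = 0 → ∃ b, a = (p : A) ^ (n - j) * b := by
    algebraize [i, i.comp MvPolynomial.C]
    have hA : Algebra.Etale (MvPolynomial (Fin 2) W) A := hi
    have h1 : Module.Flat (MvPolynomial (Fin 2) W) A := inferInstance
    have h2 : Module.Flat W A := Module.Flat.trans W (MvPolynomial (Fin 2) W) A
    exact flat_tor B.flat
  have hmk : ∀ (f : Fin p × Fin p → A), Ideal.Quotient.mk (Ideal.span {(p : A)})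
      (∑ e, φ (f e) * (F.x 0 ^ (e.1 : ℕ) * F.x 1 ^ (e.2 : ℕ))) =
      ∑ e, (Ideal.Quotient.mk (Ideal.span {(p : A)}) (f e)) ^ p *
        (Ideal.Quotient.mk (Ideal.span {(p : A)}) (i (.X 0)) ^ (e.1 : ℕ) *
          Ideal.Quotient.mk (Ideal.span {(p : A)}) (i (.X 1)) ^ (e.2 : ℕ)) := by
    intro f
    rw [map_sum]
    refine Finset.sum_congr rfl fun e _ => ?_
    rw [map_mul, map_mul, map_pow, map_pow, hF, hF, (mk_eq_iff _ _).mpr (hφ (f e)), map_pow]
  have hbas : Function.Bijective (fun f : Fin p × Fin p → A => ∑ e, φ (f e) * (F.x 0 ^ (e.1 : ℕ) * F.x 1 ^ (e.2 : ℕ))) := by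
    cases subsingleton_or_nontrivial (A ⧸ Ideal.span {(p : A)}) with
    | inl h =>
      have h1 : ∀ a : A, ∃ b, a = (p : A) * b := fun a => by
        obtain ⟨b, hb⟩ := (mk_eq_iff (p := p) a 0).mp (Subsingleton.elim _ _)
        exact ⟨b, by rw [hb, zero_add]⟩
      choose d hd using h1
      refine bijective_of_mod_p φ _ hpn hflat (fun f _ => ⟨fun e => d (f e), fun e => hd _⟩) fun a => ⟨0, d a, ?_⟩
      simpa using hd a
    | inr h =>
      have hPB := isPB_quotient (p := p) B.π B.surj B.ker i hi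
      refine bijective_of_mod_p φ _ hpn hflat ?_ ?_
      · rintro f ⟨b, hb⟩
        have h1 : (fun e => Ideal.Quotient.mk (Ideal.span {(p : A)}) (f e)) = 0 := by
          apply hPB.1
          simp only
          rw [← hmk, hb, map_mul, map_natCast, mk_p, zero_mul]
          symm
          refine Finset.sum_eq_zero fun e _ => ?_
          rw [Pi.zero_apply, zero_pow hp.out.ne_zero, zero_mul]
        have h2 : ∀ e, ∃ g, f e = (p : A) * g := fun e => by
          obtain ⟨c, hc⟩ := (mk_eq_iff (p := p) (f e) 0).mp (by rw [map_zero]; exact congrFun h1 e)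
          exact ⟨c, by rw [hc, zero_add]⟩
        choose g hg using h2
        exact ⟨g, hg⟩
      · intro a
        obtain ⟨c, hc⟩ := hPB.2 (Ideal.Quotient.mk _ a)
        choose f hf using fun e => Ideal.Quotient.mk_surjective (I := Ideal.span {(p : A)}) (c e)
        obtain ⟨b, hb⟩ := (mk_eq_iff (p := p) a (∑ e, φ (f e) * (F.x 0 ^ (e.1 : ℕ) * F.x 1 ^ (e.2 : ℕ)))).mp (by
          rw [hmk, ← hc]
          simp only [hf])
        exact ⟨f, b, hb⟩
  refine ⟨⟨F, φ, hpn, fun j => ?_, hφ, hbas, hflat⟩, hF, fun w => ?_⟩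
  · rw [hF, hφi, hτX, map_pow]
  · change φ _ = _
    rw [hφi, hτC]

/-- The Frobenius lift of a toric chart ring is determined by the coordinates and its values on the base. -/
theorem phi_ext {W : Type u} [CommRing W] {A : Type u}
    [CommRing A] {i : MvPolynomial (Fin 2) W →+* A} (hi : i.Etale) (T T' : Tor p n A)
    (h0 : ∀ j, T.φ (i (.X j)) = T'.φ (i (.X j))) (h : ∀ w, T.φ (i (.C w)) = T'.φ (i (.C w))) : T.φ = T'.φ := by
  refine unique_phi i hi T.pn T.φ T'.φ ?_ T.hφ T'.hφ
  exact RingHom.congr_fun (MvPolynomial.ringHom_ext (f := T.φ.comp i) (g := T'.φ.comp i) h h0)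

/-- Homomorphisms of étale `W[x₀, x₁]`-algebras commute with the lifts of Frobenius. -/
theorem phi_comm {P : Type v} [CommRing P] {A : Type u} [CommRing A] {i : P →+* A} (hi : i.Etale)
    (φ : A →+* A) (hφ : ∀ a, ∃ b, φ a = a ^ p + (p : A) * b) {A' : Type w} [CommRing A'] (hpn : (p : A') ^ n = 0)
    (φ' : A' →+* A') (hφ' : ∀ a, ∃ b, φ' a = a ^ p + (p : A') * b) (f : A →+* A')
    (h : ∀ r, f (φ (i r)) = φ' (f (i r))) (a : A) : f (φ a) = φ' (f a) := by
  have : f.comp φ = φ'.comp f := by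
    refine lift_ext i hi (Ideal.span {(p : A')}) (isNilpotent_span hpn) _ _ h fun a => ?_
    rw [RingHom.comp_apply, RingHom.comp_apply, mk_eq_iff]
    obtain ⟨b, hb⟩ := hφ a
    obtain ⟨c, hc⟩ := hφ' (f a)
    refine ⟨f b - c, ?_⟩
    rw [hb, hc, map_add, map_mul, map_natCast, map_pow]
    ring
  exact RingHom.congr_fun this a

end main

end K103.Tor
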