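import Groth.Agent.EtCoh.K103.Tor
import Groth.Agent.EtCoh.K961.Chart

/-!
# Toric chart rings go up along étale maps

`exists_tor_etale`, `cpt_unique`.
-/

set_option autoImplicit false
set_option linter.unusedSectionVars false

universe u v w

open TensorProduct KaehlerDifferential K56.T4 K611.Frame

namespace K103.Tor

variable {p n : ℕ} [hp : Fact p.Prime]

theorem isPB_of_tor {A : Type u} [CommRing A] (T : Tor p n A) :
    K675.PBasis.IsPB p (fun e : Fin p × Fin p => (Ideal.Quotient.mk (Ideal.span {(p : A)})) (T.fr.x 0) ^ (e.1 : ℕ) *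
      (Ideal.Quotient.mk (Ideal.span {(p : A)})) (T.fr.x 1) ^ (e.2 : ℕ)) := by
  cases subsingleton_or_nontrivial (A ⧸ Ideal.span {(p : A)}) with
  | inl h => exact ⟨fun _ _ _ => Subsingleton.elim _ _, fun a => ⟨0, Subsingleton.elim _ _⟩⟩
  | inr h =>
    have : CharP (A ⧸ Ideal.span {(p : A)}) p := (CharP.charP_iff_prime_eq_zero hp.out).mpr mk_p
    have hmk : ∀ (f : Fin p × Fin p → A), Ideal.Quotient.mk (Ideal.span {(p : A)}) (T.expn f) =
        ∑ e, (Ideal.Quotient.mk (Ideal.span {(p : A)}) (f e)) ^ p *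
          (Ideal.Quotient.mk (Ideal.span {(p : A)}) (T.fr.x 0) ^ (e.1 : ℕ) *
            Ideal.Quotient.mk (Ideal.span {(p : A)}) (T.fr.x 1) ^ (e.2 : ℕ)) := by
      intro f
      change Ideal.Quotient.mk (Ideal.span {(p : A)})
        (∑ e, T.φ (f e) * (T.fr.x 0 ^ (e.1 : ℕ) * T.fr.x 1 ^ (e.2 : ℕ))) = _
      rw [map_sum]
      refine Finset.sum_congr rfl fun e _ => ?_
      rw [map_mul, map_mul, map_pow, map_pow, (mk_eq_iff _ _).mpr (T.hφ (f e)), map_pow]
    rw [K675.PBasis.isPB_iff]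
    constructor
    · intro c hc
      choose f hf using fun e => Ideal.Quotient.mk_surjective (I := Ideal.span {(p : A)}) (c e)
      have h1 : Ideal.Quotient.mk (Ideal.span {(p : A)}) (T.expn f) = Ideal.Quotient.mk _ 0 := by
        rw [hmk, map_zero, ← hc]
        simp only [hf]
      obtain ⟨b, hb⟩ := (mk_eq_iff _ _).mp h1
      rw [zero_add] at hb
      obtain ⟨g, hg⟩ := T.bas.2 b
      have h2 : T.expn f = T.expn fun e => (p : A) * g e := by
        rw [hb, ← hg]
        change (p : A) * (∑ e, T.φ (g e) * (T.fr.x 0 ^ (e.1 : ℕ) * T.fr.x 1 ^ (e.2 : ℕ))) =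
          ∑ e, T.φ ((p : A) * g e) * (T.fr.x 0 ^ (e.1 : ℕ) * T.fr.x 1 ^ (e.2 : ℕ))
        rw [Finset.mul_sum]
        refine Finset.sum_congr rfl fun e _ => ?_
        rw [map_mul, map_natCast, mul_assoc]
      have h3 : f = fun e => (p : A) * g e := T.bas.1 h2
      funext e
      rw [← hf, h3, Pi.zero_apply, map_mul, map_natCast, mk_p, zero_mul]
    · intro b
      obtain ⟨a, rfl⟩ := Ideal.Quotient.mk_surjective b
      obtain ⟨f, hf⟩ := T.bas.2 a
      refine ⟨fun e => Ideal.Quotient.mk _ (f e), ?_⟩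
      rw [← hmk]
      exact congrArg _ hf.symm

/-- `A ⧸ p → A' ⧸ p` is étale if `A → A'` is. -/
theorem exists_etale_quotient {A : Type u} {A' : Type v} [CommRing A] [CommRing A'] (f : A →+* A') (hf : f.Etale) :
    ∃ g : A ⧸ Ideal.span {(p : A)} →+* A' ⧸ Ideal.span {(p : A')}, g.Etale ∧
      ∀ a, g (Ideal.Quotient.mk _ a) = Ideal.Quotient.mk _ (f a) := by
  algebraize [f]
  have hA : Algebra.Etale A A' := hf
  let I : Ideal A := Ideal.span {(p : A)}
  have hI : I.map (algebraMap A A') = Ideal.span {(p : A')} := by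
    rw [Ideal.map_span, Set.image_singleton, map_natCast]
  let e₂ : (A' ⧸ I.map (algebraMap A A')) ≃ₐ[A ⧸ I] (A ⧸ I) ⊗[A] A' :=
    Algebra.TensorProduct.quotIdealMapEquivQuotTensor A' I
  have h20 : Algebra.Etale (A ⧸ I) ((A ⧸ I) ⊗[A] A') := Algebra.Etale.baseChange A A' (A ⧸ I)
  have h2 : Algebra.Etale (A ⧸ I) (A' ⧸ I.map (algebraMap A A')) := Algebra.Etale.of_equiv (A := (A ⧸ I) ⊗[A] A') e₂.symm
  let e₃ : (A' ⧸ I.map (algebraMap A A')) ≃+* A' ⧸ Ideal.span {(p : A')} := Ideal.quotEquivOfEq hI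
  exact ⟨(e₃ : (A' ⧸ I.map (algebraMap A A')) →+* A' ⧸ Ideal.span {(p : A')}).comp
    (algebraMap (A ⧸ I) (A' ⧸ I.map (algebraMap A A'))),
    K675.EtalePB.etale_comp _ _ (RingHom.etale_algebraMap.mpr h2) (RingHom.Etale.of_bijective e₃.bijective), fun a => rfl⟩

/-- Frames go up along étale maps. -/
theorem exists_frame_etale {A A' : Type u} [CommRing A] [CommRing A'] {ι : Type v} (F : Fr A ι) (f : A →+* A')
    (hf : f.Etale) : ∃ F' : Fr A' ι, ∀ j, F'.x j = f (F.x j) := by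
  algebraize [f]
  have hA : Algebra.Etale A A' := hf
  let b₂ : Module.Basis ι A' Ω[A'⁄ℤ] := (F.b.baseChange A').map (tensorKaehlerEquivOfFormallyEtale ℤ A A')
  refine ⟨⟨fun j => f (F.x j), b₂, fun j => ?_⟩, fun j => rfl⟩
  rw [Module.Basis.map_apply, Module.Basis.baseChange_apply, F.hb, tensorKaehlerEquivOfFormallyEtale_apply,
    mapBaseChange_tmul, one_smul, map_D]
  rfl

/-- **Toric chart rings go up along étale maps**. -/
theorem exists_tor_etale {A A' : Type u} [CommRing A] [CommRing A'] (T : Tor p n A) (f : A →+* A') (hf : f.Etale) :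
    ∃ T' : Tor p n A', K961.Cpt T T' f := by
  obtain ⟨F, hF⟩ := exists_frame_etale T.fr f hf
  have hpn : (p : A') ^ n = 0 := by
    have := congrArg f T.pn
    rwa [map_pow, map_natCast, map_zero] at this
  obtain ⟨φ, hφi, hφ⟩ := exists_phi_of_etale f hf hpn T.φ T.hφ
  have hflat : ∀ j ≤ n, ∀ a : A', (p : A') ^ j * a = 0 → ∃ b, a = (p : A') ^ (n - j) * b := by
    algebraize [f]
    have hA : Algebra.Etale A A' := hf
    have h1 : Module.Flat A A' := inferInstance
    exact flat_tor T.flat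
  obtain ⟨g, hg, hgf⟩ := exists_etale_quotient (p := p) f hf
  have hmk : ∀ (c : Fin p × Fin p → A'), Ideal.Quotient.mk (Ideal.span {(p : A')})
      (∑ e, φ (c e) * (F.x 0 ^ (e.1 : ℕ) * F.x 1 ^ (e.2 : ℕ))) =
      ∑ e, (Ideal.Quotient.mk (Ideal.span {(p : A')}) (c e)) ^ p *
        (g (Ideal.Quotient.mk (Ideal.span {(p : A)}) (T.fr.x 0) ^ (e.1 : ℕ) *
          Ideal.Quotient.mk (Ideal.span {(p : A)}) (T.fr.x 1) ^ (e.2 : ℕ))) := by
    intro c
    rw [map_sum]
    refine Finset.sum_congr rfl fun e _ => ?_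
    rw [map_mul, map_mul, map_pow, map_pow, hF, hF, (mk_eq_iff _ _).mpr (hφ (c e)), map_pow, map_mul g, map_pow g, map_pow g,
      hgf, hgf]
  have hbas : Function.Bijective (fun c : Fin p × Fin p → A' =>
      ∑ e, φ (c e) * (F.x 0 ^ (e.1 : ℕ) * F.x 1 ^ (e.2 : ℕ))) := by
    cases subsingleton_or_nontrivial (A' ⧸ Ideal.span {(p : A')}) with
    | inl h =>
      have h1 : ∀ a : A', ∃ b, a = (p : A') * b := fun a => by
        obtain ⟨b, hb⟩ := (mk_eq_iff (p := p) a 0).mp (Subsingleton.elim _ _)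
        exact ⟨b, by rw [hb, zero_add]⟩
      choose d hd using h1
      refine bijective_of_mod_p φ _ hpn hflat (fun f _ => ⟨fun e => d (f e), fun e => hd _⟩) fun a => ⟨0, d a, ?_⟩
      simpa using hd a
    | inr h =>
      have hnt : Nontrivial (A ⧸ Ideal.span {(p : A)}) := g.domain_nontrivial
      have h3 : CharP (A ⧸ Ideal.span {(p : A)}) p := (CharP.charP_iff_prime_eq_zero hp.out).mpr mk_p
      have h4 : CharP (A' ⧸ Ideal.span {(p : A')}) p := (CharP.charP_iff_prime_eq_zero hp.out).mpr mk_p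
      have hPB := K675.EtalePB.isPB_of_etale g hg (isPB_of_tor T)
      refine bijective_of_mod_p φ _ hpn hflat ?_ ?_
      · rintro c ⟨b, hb⟩
        have h1 : (fun e => Ideal.Quotient.mk (Ideal.span {(p : A')}) (c e)) = 0 := by
          apply hPB.1
          simp only
          rw [← hmk, hb, map_mul, map_natCast, mk_p, zero_mul]
          symm
          refine Finset.sum_eq_zero fun e _ => ?_
          rw [Pi.zero_apply, zero_pow hp.out.ne_zero, zero_mul]
        have h2 : ∀ e, ∃ g, c e = (p : A') * g := fun e => by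
          obtain ⟨c, hc⟩ := (mk_eq_iff (p := p) (c e) 0).mp (by rw [map_zero]; exact congrFun h1 e)
          exact ⟨c, by rw [hc, zero_add]⟩
        choose g hg using h2
        exact ⟨g, hg⟩
      · intro a
        obtain ⟨c, hc⟩ := hPB.2 (Ideal.Quotient.mk _ a)
        choose d hd using fun e => Ideal.Quotient.mk_surjective (I := Ideal.span {(p : A')}) (c e)
        obtain ⟨b, hb⟩ := (mk_eq_iff (p := p) a (∑ e, φ (d e) * (F.x 0 ^ (e.1 : ℕ) * F.x 1 ^ (e.2 : ℕ)))).mp (by
          rw [hmk, ← hc]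
          simp only [hd])
        exact ⟨d, b, hb⟩
  refine ⟨⟨F, φ, hpn, fun j => ?_, hφ, hbas, hflat⟩, ⟨fun j => (hF j).symm, fun a => (hφi a).symm⟩⟩
  rw [hF, hφi, T.φx, map_pow]

theorem fr_ext {A : Type u} [CommRing A] {ι : Type v} {F F' : Fr A ι} (h : ∀ j, F.x j = F'.x j) : F = F' := by
  obtain ⟨x, b, hb⟩ := F
  obtain ⟨x', b', hb'⟩ := F'
  obtain rfl : x = x' := funext h
  obtain rfl : b = b' := Module.Basis.eq_of_apply_eq fun i => (hb i).trans (hb' i).symm
  rfl

omit hp in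
theorem tor_ext {A : Type u} [CommRing A] {T T' : Tor p n A} (h : ∀ j, T.fr.x j = T'.fr.x j) (h' : T.φ = T'.φ) :
    T = T' := by
  obtain ⟨F, φ, _, _, _, _, _⟩ := T
  obtain ⟨F', φ', _, _, _, _, _⟩ := T'
  obtain rfl : φ = φ' := h'
  obtain rfl : F = F' := fr_ext h
  rfl

/-- Uniqueness. -/
theorem cpt_unique {A A' : Type u} [CommRing A] [CommRing A'] (T : Tor p n A)
    (f : A →+* A') (hf : f.Etale) (T' T'' : Tor p n A') (h' : K961.Cpt T T' f) (h'' : K961.Cpt T T'' f) : T' = T'' :=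
  tor_ext (fun j => by rw [← h'.x, h''.x])
    (unique_phi f hf T'.pn T'.φ T''.φ (fun r => by rw [← h'.φ, h''.φ]) T'.hφ T''.hφ)

end K103.Tor
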