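import Groth.Agent.EtCoh.K961.Key

/-!
# The trace of two-forms commutes with the Cartier operator

`tr2_S`: `A → E` finite free, `A`, `E` toric chart rings with compatible charts.
-/

set_option autoImplicit false
set_option linter.unusedSectionVars false

universe u v w

open KaehlerDifferential K611.Gam K611.Gam2 K611.Frame K611.Top K56.T4 K961

namespace K103.TrS

variable {p n : ℕ} {A E : Type u} [CommRing A] [CommRing E] [Algebra A E]

theorem map_mon {T : Tor p n A} {TE : Tor p n E} (h : Cpt T TE (algebraMap A E)) (e : Fin p × Fin p) :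
    algebraMap A E (T.mon e) = TE.mon e := by
  unfold Tor.mon
  rw [map_mul, map_pow, map_pow, h.x, h.x]

/-- The image of a basis under the lift of Frobenius is a basis. -/
theorem exists_basis_phi (T : Tor p n A) (TE : Tor p n E) (h : Cpt T TE (algebraMap A E)) {ι : Type*} [Fintype ι]
    (b : Module.Basis ι A E) : ∃ b₂ : Module.Basis ι A E, ∀ i, b₂ i = TE.φ (b i) := by
  have hli : LinearIndependent A (fun i => TE.φ (b i)) := by
    rw [Fintype.linearIndependent_iff]
    intro c hc
    have h1 : ∑ e, TE.φ (∑ i, T.coord (c i) e • b i) * TE.mon e = 0 := by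
      rw [← hc]
      have h2 : ∀ i, c i • TE.φ (b i) = ∑ e, TE.φ (T.coord (c i) e • b i) * TE.mon e := by
        intro i
        conv_lhs => rw [← T.coord_spec (c i)]
        rw [Finset.sum_smul]
        refine Finset.sum_congr rfl fun e _ => ?_
        rw [Algebra.smul_def, Algebra.smul_def, map_mul, map_mul, h.φ, map_mon h]
        ring
      simp only [h2, map_sum, Finset.sum_mul]
      exact Finset.sum_comm
    have h3 := TE.coord_unique _ h1
    have h4 : TE.coord 0 = 0 := map_zero _
    intro i
    rw [← T.coord_spec (c i)]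
    refine Finset.sum_eq_zero fun e _ => ?_
    have h5 : ∑ j, T.coord (c j) e • b j = 0 := by
      have := congrFun h3 e
      rw [h4] at this
      exact this.symm
    have h6 := (Fintype.linearIndependent_iff.mp b.linearIndependent) (fun j => T.coord (c j) e) h5 i
    rw [h6, map_zero, zero_mul]
  have hs : ⊤ ≤ Submodule.span A (Set.range (fun i => TE.φ (b i))) := by
    rintro y -
    rw [← TE.coord_spec y]
    refine Submodule.sum_mem _ fun e _ => ?_
    have h1 : TE.φ (TE.coord y e) * TE.mon e =
        ∑ i, (T.φ (b.repr (TE.coord y e) i) * T.mon e) • TE.φ (b i) := by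
      conv_lhs => rw [← b.sum_repr (TE.coord y e)]
      rw [map_sum, Finset.sum_mul]
      refine Finset.sum_congr rfl fun i _ => ?_
      rw [Algebra.smul_def, Algebra.smul_def, map_mul, map_mul, h.φ, map_mon h]
      ring
    rw [h1]
    exact Submodule.sum_mem _ fun i _ => Submodule.smul_mem _ _ (Submodule.subset_span ⟨i, rfl⟩)
  exact ⟨Module.Basis.mk hli hs, fun i => Module.Basis.mk_apply hli hs i⟩

/-- The trace commutes with the lifts of Frobenius. -/
theorem trace_phi [Module.Finite A E] [Module.Free A E] (T : Tor p n A) (TE : Tor p n E)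
    (h : Cpt T TE (algebraMap A E)) (a : E) : Algebra.trace A E (TE.φ a) = T.φ (Algebra.trace A E a) := by
  let b := Module.Free.chooseBasis A E
  obtain ⟨b₂, hb₂⟩ := exists_basis_phi T TE h b
  exact trace_map T.φ TE.φ (fun a => (h.φ a).symm) b b₂ (fun i => (hb₂ i).symm) a

variable [hp : Fact p.Prime]

/-- The trace commutes with the top coordinate. -/
theorem trace_tc [Module.Finite A E] [Module.Free A E] (T : Tor p n A) (TE : Tor p n E)
    (h : Cpt T TE (algebraMap A E)) (a : E) : Algebra.trace A E (TE.tc a) = T.tc (Algebra.trace A E a) := by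
  induction a using TE.elem_induction with
  | h0 => rw [TE.tc_zero, map_zero, T.tc_zero]
  | hadd a b ha hb => rw [TE.tc_add, map_add, map_add, T.tc_add, ha, hb]
  | h a i j hi hj =>
    have h1 : TE.φ a * (TE.fr.x 0 ^ i * TE.fr.x 1 ^ j) = (T.fr.x 0 ^ i * T.fr.x 1 ^ j) • TE.φ a := by
      rw [Algebra.smul_def, map_mul, map_pow, map_pow, h.x, h.x, mul_comm]
    rw [TE.tc_phi_mon a hi hj, h1, map_smul, trace_phi T TE h, smul_eq_mul, mul_comm, T.tc_phi_mon _ hi hj]
    split_ifs
    · rfl
    · rw [map_zero]

/-- **The trace of two-forms commutes with the Cartier operator**. -/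
theorem tr2_S [Module.Finite A E] [Module.Free A E] (T : Tor p n A) (TE : Tor p n E)
    (h : Cpt T TE (algebraMap A E)) (η : Om2 E) :
    tr2 T.fr TE.fr (TE.S η) = T.S (tr2 T.fr TE.fr η) := by
  obtain ⟨e, rfl⟩ := TE.exists_smul_vol η
  rw [TE.S_smul_vol, tr2_smul_vol, tr2_smul_vol, T.S_smul_vol, trace_tc T TE h]

end K103.TrS
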